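import Cfsg.Agent.Lib.Leech.ConwaySimple.Mono
import Cfsg.Prelude.Def_Sporadic

/-!
# Simplicity of the first Conway group
-/

set_option autoImplicit false

open scoped Pointwise symmDiff

namespace CfsgLib.Leech.ConwaySimple

open Cfsg CfsgLib.Golay CfsgLib.Leech

theorem mem_center_iff_neg {z : Co0} : z ∈ Subgroup.center Co0 ↔ z = 1 ∨ z = negAut := by
  constructor
  · intro hz
    obtain ⟨a, b, hab, huniv⟩ := Nat.card_eq_two_iff.1 card_center_co0
    have hmem : ∀ w : Subgroup.center Co0, w = a ∨ w = b := fun w => by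
      have : w ∈ ({a, b} : Set (Subgroup.center Co0)) := huniv ▸ Set.mem_univ w
      simpa using this
    have hne : (⟨negAut, negAut_mem_center⟩ : Subgroup.center Co0) ≠ 1 := fun h =>
      negAut_ne_one (congrArg Subtype.val h)
    suffices (⟨z, hz⟩ : Subgroup.center Co0) = 1 ∨ (⟨z, hz⟩ : Subgroup.center Co0) = ⟨negAut, negAut_mem_center⟩ by
      rcases this with h | h
      · exact Or.inl (congrArg Subtype.val h)
      · exact Or.inr (congrArg Subtype.val h)
    rcases hmem ⟨z, hz⟩ with h | h <;> rcases hmem 1 with h' | h' <;>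
      rcases hmem ⟨negAut, negAut_mem_center⟩ with h'' | h'' <;> simp_all
  · rintro (rfl | rfl)
    exacts [one_mem _, negAut_mem_center]

/-- The quotient map. -/
abbrev mk1 : Co0 →* Co0 ⧸ Subgroup.center Co0 := QuotientGroup.mk' _

theorem finite_co1 : Finite (Co0 ⧸ Subgroup.center Co0) := by
  have := finite_co0
  infer_instance

theorem card_co1 : Nat.card (Co0 ⧸ Subgroup.center Co0) = 4157776806543360000 := by
  have h := (Subgroup.center Co0).card_mul_index
  rw [card_center_co0, card_co0, Subgroup.index] at h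
  omega

theorem s23_not_central : s23 ∉ Subgroup.center Co0 := by
  intro h
  have h1 := orderOf_s23
  rcases mem_center_iff_neg.1 h with e | e <;> rw [e] at h1
  · simp at h1
  · have : orderOf negAut ∣ 2 := orderOf_dvd_of_pow_eq_one (by rw [pow_two, negAut_mul_self])
    rw [h1] at this
    norm_num at this

theorem orderOf_mk_s23 : orderOf (mk1 s23) = 23 := by
  have h : orderOf (mk1 s23) ∣ 23 := orderOf_s23 ▸ orderOf_map_dvd mk1 s23
  rcases (Nat.dvd_prime (by norm_num : Nat.Prime 23)).1 h with h | h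
  · exact absurd ((QuotientGroup.eq_one_iff _).1 (orderOf_eq_one_iff.1 h)) s23_not_central
  · exact h

theorem cent_co1 (x : Co0 ⧸ Subgroup.center Co0) (h : x * mk1 s23 = mk1 s23 * x) :
    x ∈ Subgroup.zpowers (mk1 s23) := by
  obtain ⟨g, rfl⟩ := QuotientGroup.mk'_surjective _ x
  have hz : (g * s23)⁻¹ * (s23 * g) ∈ Subgroup.center Co0 := by
    rw [← QuotientGroup.eq_one_iff]
    show mk1 ((g * s23)⁻¹ * (s23 * g)) = 1
    rw [map_mul, map_inv, map_mul, map_mul, inv_mul_eq_one]
    exact h
  have hg : g * s23 = s23 * g := by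
    rcases mem_center_iff_neg.1 hz with e | e
    · exact inv_mul_eq_one.1 e
    · exfalso
      have e1 : g⁻¹ * s23 * g = s23 * negAut := by rw [← e]; group
      have hpow : (s23 * negAut) ^ 23 = 1 := by
        rw [← e1, show g⁻¹ * s23 * g = g⁻¹ * s23 * g⁻¹⁻¹ by rw [inv_inv], conj_pow,
          ← orderOf_s23, pow_orderOf_eq_one]
        group
      rw [(Commute.mul_pow (Subgroup.mem_center_iff.1 negAut_mem_center s23) 23),
        show (23 : ℕ) = 2 * 11 + 1 by norm_num, pow_succ (negAut), pow_mul, pow_two, negAut_mul_self,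
        one_pow, one_mul, show 2 * 11 + 1 = orderOf s23 by rw [orderOf_s23], pow_orderOf_eq_one,
        one_mul] at hpow
      exact negAut_ne_one hpow
  obtain ⟨k, hk | hk⟩ := cent23 hg <;> subst hk <;> refine ⟨(k : ℤ), ?_⟩
  · show mk1 s23 ^ (k : ℤ) = _
    rw [zpow_natCast, map_pow]
  · show mk1 s23 ^ (k : ℤ) = _
    rw [zpow_natCast, map_mul, map_pow,
      show mk1 negAut = 1 from (QuotientGroup.eq_one_iff _).2 negAut_mem_center, one_mul]

/-- An element fixing every cross is central. -/
theorem central_of_fix_all {g : Co0} (hg : g ∈ crossStab)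
    (h : ∀ y : leechLattice, sqNorm (y : GolayPt → ℤ) = 64 → FixCls g y) :
    g ∈ Subgroup.center Co0 := by
  classical
  obtain ⟨π, hπ, c, hc, rfl⟩ := exists_monoAut_of_mem hg
  have key : ∀ s t : GolayPt, s ≠ t → (π s = s ∨ π s = t) ∧ (π s = s → π t = t → (s ∈ c ↔ t ∈ c)) := by
    intro s t hst
    obtain ⟨A, hA, hA3⟩ := Finset.exists_subset_card_eq
      (show 3 ≤ (((Finset.univ : Finset GolayPt).erase s).erase t).card by
        rw [Finset.card_erase_of_mem (by simp [hst.symm]), Finset.card_erase_of_mem (by simp),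
          Finset.card_univ, card_golayPt]; norm_num)
    have hs : s ∉ A := fun h => by simpa using hA h
    have ht : t ∉ A := fun h => by simpa using hA h
    have c1 : (insert s A).card = 4 := by rw [Finset.card_insert_of_notMem hs, hA3]
    have c2 : (insert t A).card = 4 := by rw [Finset.card_insert_of_notMem ht, hA3]
    have h1 : 2 ∣ (insert s A).card := by omega
    have h2 : 2 ∣ (insert t A).card := by omega
    have hn : ∀ (S : Finset GolayPt) (hS : 2 ∣ S.card), S.card = 4 →
        sqNorm ((fours S hS : leechLattice) : GolayPt → ℤ) = 64 := fun S hS e => by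
      rw [sqNorm_fours, e]; norm_num
    refine pair_fixed hst (fours_sub hs ht h1 h2) (FixCls.eq_or_neg
      ((h _ (hn _ h1 c1)).sub (h _ (hn _ h2 c2))) ?_)
    rw [fours_sub hs ht h1 h2, sqNorm_diffVec hst]
  have hfix : ∀ s, π s = s := by
    intro s
    obtain ⟨t, ht⟩ := exists_ne s
    obtain ⟨u, -, hu⟩ := Finset.exists_mem_notMem_of_card_lt_card
      (s := ({s, t} : Finset GolayPt)) (t := Finset.univ) (by
        rw [Finset.card_univ, card_golayPt]
        exact lt_of_le_of_lt Finset.card_le_two (by norm_num))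
    simp only [Finset.mem_insert, Finset.mem_singleton, not_or] at hu
    rcases (key s t ht.symm).1 with e | e
    · exact e
    rcases (key s u (Ne.symm hu.1)).1 with e' | e'
    · exact e'
    · exact absurd (e.symm.trans e') (Ne.symm hu.2)
  obtain rfl : π = 1 := Equiv.ext hfix
  rw [mem_center_iff_neg]
  rcases c.eq_empty_or_nonempty with rfl | ⟨p, hp⟩
  · exact Or.inl ((monoAut_empty 1 hπ).trans (map_one permHom))
  · obtain rfl : c = Finset.univ := Finset.eq_univ_iff_forall.2 fun q => by
      rcases eq_or_ne p q with rfl | hne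
      · exact hp
      · exact ((key p q hne).2 (hfix p) (hfix q)).1 hp
    refine Or.inr ?_
    rw [monoAut_univ, show (⟨1, hπ⟩ : M24) = 1 from rfl, map_one, mul_one]

theorem prime_parts_co1 {N : Subgroup (Co0 ⧸ Subgroup.center Co0)} [N.Normal] (hp : ¬ 23 ∣ Nat.card N) :
    Nat.card N ∣ 2 ^ 21 := by
  have := finite_co1
  have : Fact (Nat.Prime 23) := ⟨by norm_num⟩
  have : Fact (Nat.Prime 3) := ⟨by norm_num⟩
  have : Fact (Nat.Prime 5) := ⟨by norm_num⟩
  have : Fact (Nat.Prime 7) := ⟨by norm_num⟩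
  have : Fact (Nat.Prime 11) := ⟨by norm_num⟩
  have : Fact (Nat.Prime 13) := ⟨by norm_num⟩
  have e := SelfCentSimple.not_dvd_of_part orderOf_mk_s23 cent_co1 hp
  refine SelfCentSimple.dvd_of_parts (r := 2) (a := 21)
    (L := [(3, 9), (5, 4), (7, 2), (11, 1), (13, 1), (23, 1)]) (by rw [card_co1]; norm_num) ?_
  simp only [List.mem_cons, List.not_mem_nil, or_false, forall_eq_or_imp, forall_eq]
  exact ⟨⟨by norm_num, e 3 9 (by rw [card_co1]; norm_num) (by decide)⟩,
    ⟨by norm_num, e 5 4 (by rw [card_co1]; norm_num) (by decide)⟩,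
    ⟨by norm_num, e 7 2 (by rw [card_co1]; norm_num) (by decide)⟩,
    ⟨by norm_num, e 11 1 (by rw [card_co1]; norm_num) (by decide)⟩,
    ⟨by norm_num, e 13 1 (by rw [card_co1]; norm_num) (by decide)⟩,
    ⟨by norm_num, hp⟩⟩

theorem small_co1 (N : Subgroup (Co0 ⧸ Subgroup.center Co0)) (hN : N.Normal)
    (hp : ¬ 23 ∣ Nat.card N) : N = ⊥ := by
  have := finite_co0
  have := hN
  set K := N.comap mk1 with hK
  have hsurj : Function.Surjective mk1 := QuotientGroup.mk'_surjective _
  have hcard : Nat.card K ∣ 2 ^ 22 := by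
    have h1 := K.card_mul_index
    rw [hK, Subgroup.index_comap_of_surjective _ hsurj, ← hK, card_co0] at h1
    have h2 := N.card_mul_index
    rw [card_co1] at h2
    have hpos : 0 < N.index := Nat.pos_of_ne_zero Subgroup.index_ne_zero_of_finite
    have h3 : Nat.card K = 2 * Nat.card N := by
      refine Nat.eq_of_mul_eq_mul_right hpos ?_
      rw [h1, mul_assoc, h2]; norm_num
    rw [h3, pow_succ' 2 21]
    exact mul_dvd_mul_left 2 (prime_parts_co1 hp)
  have hle : K ≤ crossStab := SelfCentSimple.le_of_coprime (Nat.Coprime.coprime_dvd_left hcard (by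
    rw [index_crossStab]
    exact Nat.Coprime.pow_left _ (by norm_num)))
  have hKZ : K ≤ Subgroup.center Co0 := by
    intro g hg
    refine central_of_fix_all (hle hg) fun y hy => ?_
    obtain ⟨a, ha⟩ := exists_to_std (inner_self_of_norm (v := y) (n := 8) (by rw [hy]; norm_num))
    exact fixCls_of_conj hy ha (hle ((inferInstance : K.Normal).conj_mem g hg a))
  refine eq_bot_iff.2 fun x hx => ?_
  obtain ⟨g, rfl⟩ := hsurj x
  exact (QuotientGroup.eq_one_iff g).2 (hKZ hx)

theorem perm_le {K : Subgroup Co0} [K.Normal] (h : K.index < 244823040) (π : M24) : permHom π ∈ K := by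
  have := finite_co0
  have := M24_simple
  refine SelfCentSimple.le_of_simple (S := permHom.range)
    (MonoidHom.ofInjective permHom_injective).symm.isSimpleGroup ?_ ⟨π, rfl⟩
  rwa [← Nat.card_congr (MonoidHom.ofInjective permHom_injective).toEquiv, card_M24]

/-- An octad that is the difference of two octads. -/
theorem basis_split : ∀ b ∈ golayBasis, ∃ o ∈ golayBasis, bitCount b = 8 ∧ bitCount (o ^^^ b) = 8 ∧
    bitCount o = 8 ∧ inCode (o ^^^ b) = true := by decide +kernel

theorem sign_le {K : Subgroup Co0} [K.Normal] (hperm : ∀ π : M24, permHom π ∈ K) {c : Finset GolayPt}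
    (hc : CodeSet c) : signAut c hc ∈ K := by
  have hbasis : ∀ b ∈ golayBasis, ∃ hb : CodeSet (toSet b), signAut (toSet b) hb ∈ K := by
    intro b hb
    refine ⟨mem_supports.2 ⟨b, mem_spanList_self hb, rfl⟩, ?_⟩
    obtain ⟨o, ho, -, h8, ho8, hin⟩ := basis_split b hb
    have ho1 : toSet o ∈ octads := mem_wordsOfWeight.2 ⟨o, mem_spanList_self ho, ho8, rfl⟩
    have ho2 : toSet (o ^^^ b) ∈ octads :=
      mem_wordsOfWeight.2 ⟨_, mem_golayList_of_inCode hin, h8, rfl⟩
    obtain ⟨g₁, hg₁, e₁⟩ := octads_transitive ho1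
    obtain ⟨g₂, hg₂, e₂⟩ := octads_transitive ho2
    have hm := signAut_commutator_mem (N := K) (π := ⟨g₂ * g₁⁻¹, mul_mem hg₂ (inv_mem hg₁)⟩)
      (hperm _) ho1.1
    rwa [signAut_congr _ (mem_supports.2 ⟨b, mem_spanList_self hb, rfl⟩)] at hm
    show toSet o ∆ ((g₂ * g₁⁻¹) • toSet o) = toSet b
    rw [mul_smul, ← e₁, inv_smul_smul, e₂, e₁, ← toSet_xor, ← Nat.xor_assoc, Nat.xor_self, Nat.zero_xor]
  have hall : ∀ n ∈ golayList, ∃ hn : CodeSet (toSet n), signAut (toSet n) hn ∈ K := by
    refine spanList_induction (P := fun n => ∃ hn : CodeSet (toSet n), signAut (toSet n) hn ∈ K) ?_ ?_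
    · have h0 : toSet 0 = ∅ := by ext p; simp [mem_toSet]
      refine ⟨h0 ▸ codeSet_empty, ?_⟩
      rw [signAut_congr _ codeSet_empty h0]
      convert one_mem K
      exact co_ext fun v => Subtype.ext (funext fun i => by simp [coe_signAut_smul, signFlip_apply])
    · rintro b hb n ⟨hn, hnK⟩
      obtain ⟨hb', hbK⟩ := hbasis b hb
      refine ⟨(toSet_xor b n).symm ▸ codeSet_symmDiff hb' hn, ?_⟩
      rw [signAut_congr _ (codeSet_symmDiff hb' hn) (toSet_xor b n), ← signAut_mul hb' hn]
      exact mul_mem hbK hnK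
  obtain ⟨n, hn, rfl⟩ := mem_supports.1 hc
  exact (hall n hn).2

theorem large_co1 (N : Subgroup (Co0 ⧸ Subgroup.center Co0)) (hN : N.Normal)
    (hi : N.index ∣ 23 - 1) : N = ⊤ := by
  have := finite_co0
  have := hN
  set K := N.comap mk1 with hK
  have hsurj : Function.Surjective mk1 := QuotientGroup.mk'_surjective _
  have hiK : K.index ∣ 22 := by
    rw [hK, Subgroup.index_comap_of_surjective _ hsurj]; exact hi
  have hlt : K.index < 244823040 := lt_of_le_of_lt (Nat.le_of_dvd (by norm_num) hiK) (by norm_num)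
  have hle : crossStab ≤ K := by
    intro g hg
    obtain ⟨σ, hσ, c, hc, rfl⟩ := exists_monoAut_of_mem hg
    exact mul_mem (sign_le (perm_le hlt) hc) (perm_le hlt ⟨σ, hσ⟩)
  have h1 := Subgroup.index_dvd_of_le hle
  rw [index_crossStab] at h1
  have h2 : K.index = 1 := Nat.eq_one_of_dvd_coprimes (show Nat.Coprime 22 8292375 by norm_num) hiK h1
  rw [Subgroup.index_eq_one] at h2
  refine eq_top_iff.2 fun x _ => ?_
  obtain ⟨g, rfl⟩ := hsurj x
  exact (h2 ▸ Subgroup.mem_top g : g ∈ K)

theorem isCo1 : IsCo1 (Co0 ⧸ Subgroup.center Co0) := by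
  have := finite_co1
  have : Fact (Nat.Prime 23) := ⟨by norm_num⟩
  exact ⟨SelfCentSimple.isSimple orderOf_mk_s23 cent_co1 (by rw [card_co1]; norm_num) small_co1 large_co1,
    card_co1⟩

end CfsgLib.Leech.ConwaySimple
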