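import Cfsg.Agent.Lib.Golay.SimpleCriterion

/-!
# Simplicity from a self-centralising element of prime order, without perfectness
-/

set_option autoImplicit false
set_option linter.unusedSectionVars false

namespace CfsgLib.Leech.SelfCentSimple

open CfsgLib.Golay

variable {G : Type*} [Group G] [Finite G]

/-- For a normal subgroup `N`, the index of `N ⊓ H` in `N` divides the index of `H`. -/
theorem relIndex_dvd (N : Subgroup G) [N.Normal] (H : Subgroup G) : H.relIndex N ∣ H.index := by
  have h1 : H.relIndex (H ⊔ N) = H.relIndex N := by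
    have a := Subgroup.relIndex_sup_right (H := H) (K := N)
    have b := (N.subgroupOf (H ⊔ N)).card_mul_index
    have c := (H.subgroupOf (H ⊔ N)).card_mul_index
    have d := (N.subgroupOf H).card_mul_index
    have e := (H.subgroupOf N).card_mul_index
    rw [Nat.card_congr (Subgroup.subgroupOfEquivOfLe le_sup_right).toEquiv] at b
    rw [Nat.card_congr (Subgroup.subgroupOfEquivOfLe le_sup_left).toEquiv] at c
    have i1 : Nat.card (N.subgroupOf H) = Nat.card (N ⊓ H : Subgroup G) := by
      rw [← Subgroup.inf_subgroupOf_right]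
      exact Nat.card_congr (Subgroup.subgroupOfEquivOfLe inf_le_right).toEquiv
    have i2 : Nat.card (H.subgroupOf N) = Nat.card (N ⊓ H : Subgroup G) := by
      rw [← Subgroup.inf_subgroupOf_right, inf_comm]
      exact Nat.card_congr (Subgroup.subgroupOfEquivOfLe inf_le_left).toEquiv
    rw [i1] at d
    rw [i2] at e
    change _ * N.relIndex (H ⊔ N) = _ at b
    change _ * H.relIndex (H ⊔ N) = _ at c
    change _ * N.relIndex H = _ at d
    change _ * H.relIndex N = _ at e
    rw [a, ← e] at b
    rw [← d, ← b] at c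
    have hpos : 0 < Nat.card (N ⊓ H : Subgroup G) * N.relIndex H := by
      rw [d]; exact Nat.card_pos
    refine Nat.eq_of_mul_eq_mul_left hpos ?_
    rw [c]; ring
  rw [← h1, ← Subgroup.relIndex_mul_index (le_sup_left : H ≤ H ⊔ N)]
  exact dvd_mul_right _ _

/-- A normal subgroup of order prime to the index of `H` lies in `H`. -/
theorem le_of_coprime {N : Subgroup G} [N.Normal] {H : Subgroup G}
    (h : (Nat.card N).Coprime H.index) : N ≤ H := by
  refine Subgroup.relIndex_eq_one.1 (Nat.eq_one_of_dvd_coprimes h ?_ (relIndex_dvd N H))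
  exact Subgroup.index_dvd_card _

/-- A simple subgroup of order larger than the index of a normal subgroup lies in it. -/
theorem le_of_simple {N : Subgroup G} [N.Normal] {S : Subgroup G} (hS : IsSimpleGroup S)
    (h : N.index < Nat.card S) : S ≤ N := by
  have := hS
  rcases (inferInstance : (N.subgroupOf S).Normal).eq_bot_or_eq_top with h1 | h1
  · exfalso
    have h2 : N.relIndex S ∣ N.index := Subgroup.relIndex_dvd_index_of_normal N S
    have h3 := Nat.le_of_dvd (Nat.pos_of_ne_zero Subgroup.index_ne_zero_of_finite) h2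
    have h4 : N.relIndex S = Nat.card S := by
      show (N.subgroupOf S).index = _
      rw [h1, Subgroup.index_bot]
    omega
  · exact Subgroup.subgroupOf_eq_top.1 h1

/-- No prime `q` whose powers below the bound are incongruent to one divides a normal subgroup of
order prime to `p`. -/
theorem not_dvd_of_part {p : ℕ} [Fact p.Prime] {x : G} (hx : orderOf x = p)
    (hcent : ∀ g : G, g * x = x * g → g ∈ Subgroup.zpowers x) {N : Subgroup G} [N.Normal]
    (hp : ¬ p ∣ Nat.card N) (q : ℕ) [Fact q.Prime] (m : ℕ) (hm : ¬ q ^ (m + 1) ∣ Nat.card G)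
    (hk : ∀ k < m, q ^ (k + 1) % p ≠ 1) : ¬ q ∣ Nat.card N := by
  intro hq
  have h := SimpleCrit.part_modEq hx hcent hp (q := q)
  have h1 : 1 ≤ (Nat.card N).factorization q :=
    (Nat.Prime.dvd_iff_one_le_factorization Fact.out Nat.card_pos.ne').1 hq
  have h2 : (Nat.card N).factorization q ≤ m := by
    by_contra hc
    exact hm ((pow_dvd_pow q (by omega : m + 1 ≤ (Nat.card N).factorization q)).trans
      ((Nat.ordProj_dvd _ q).trans (Subgroup.card_subgroup_dvd_card N)))
  refine hk ((Nat.card N).factorization q - 1) (by omega) ?_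
  rw [show (Nat.card N).factorization q - 1 + 1 = (Nat.card N).factorization q by omega]
  exact Eq.trans h (Nat.one_mod_eq_one.2 (Fact.out : p.Prime).one_lt.ne')

/-- The prime `p` and the primes excluded by their parts leave a single prime. -/
theorem dvd_of_parts {N : Subgroup G} {r a : ℕ} {L : List (ℕ × ℕ)}
    (hcard : Nat.card G = r ^ a * (L.map fun qe => qe.1 ^ qe.2).prod)
    (hL : ∀ qe ∈ L, qe.1.Prime ∧ ¬ qe.1 ∣ Nat.card N) : Nat.card N ∣ r ^ a := by
  have h := Subgroup.card_subgroup_dvd_card N
  rw [hcard] at h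
  refine Nat.Coprime.dvd_of_dvd_mul_right ?_ h
  clear h hcard
  induction L with
  | nil => simp
  | cons qe L ih =>
    rw [List.map_cons, List.prod_cons]
    refine Nat.Coprime.mul_right (Nat.Coprime.pow_right _ ?_) (ih fun q hq => hL q (List.mem_cons_of_mem _ hq))
    exact ((hL qe List.mem_cons_self).1.coprime_iff_not_dvd.2 (hL qe List.mem_cons_self).2).symm

/-- A group with a self-centralising element of prime order `p`, `p²` not dividing the order, is
simple as soon as it has no nontrivial normal subgroup of order prime to `p` and no proper normal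
subgroup of index dividing `p - 1`. -/
theorem isSimple {p : ℕ} [Fact p.Prime] {x : G} (hx : orderOf x = p)
    (hcent : ∀ g : G, g * x = x * g → g ∈ Subgroup.zpowers x) (hsq : ¬ p ^ 2 ∣ Nat.card G)
    (hsmall : ∀ N : Subgroup G, N.Normal → ¬ p ∣ Nat.card N → N = ⊥)
    (hlarge : ∀ N : Subgroup G, N.Normal → N.index ∣ p - 1 → N = ⊤) : IsSimpleGroup G := by
  classical
  have : Nontrivial G := ⟨x, 1, fun h => by
    rw [h, orderOf_one] at hx; exact (Fact.out : p.Prime).one_lt.ne hx⟩
  refine ⟨fun N hN => ?_⟩
  have := hN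
  by_cases hp : p ∣ Nat.card N
  swap
  · exact Or.inl (hsmall N hN hp)
  refine Or.inr (hlarge N hN ?_)
  set P := Subgroup.zpowers x with hP
  have hPc : Nat.card P = p := by rw [hP, Nat.card_zpowers, hx]
  -- the element lies in `N`
  have hxN : x ∈ N := by
    have h0 : orderOf (x : G ⧸ N) ∣ p := hx ▸ orderOf_map_dvd (QuotientGroup.mk' N) x
    rcases (Nat.dvd_prime (Fact.out : p.Prime)).1 h0 with h | h
    · exact (QuotientGroup.eq_one_iff x).1 (orderOf_eq_one_iff.1 h)
    · exfalso
      refine hsq ?_
      rw [← N.card_mul_index, pow_two]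
      refine mul_dvd_mul hp ?_
      rw [← h, Subgroup.index]
      exact orderOf_dvd_natCard _
  have hPN : P ≤ N := Subgroup.zpowers_le.2 hxN
  have hSyl : (Nat.card N).factorization p = 1 := by
    refine le_antisymm ?_ ((Nat.Prime.dvd_iff_one_le_factorization Fact.out Nat.card_pos.ne').1 hp)
    by_contra hc
    exact hsq (((pow_dvd_pow p (by omega : 2 ≤ (Nat.card N).factorization p)).trans
      (Nat.ordProj_dvd _ p)).trans (Subgroup.card_subgroup_dvd_card N))
  let S : Sylow p N := Sylow.ofCard (P.subgroupOf N) (by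
    rw [Nat.card_congr (Subgroup.subgroupOfEquivOfLe hPN).toEquiv, hPc, hSyl, pow_one])
  have hfr := Sylow.normalizer_sup_eq_top (N := N) S
  have hmap : (S : Subgroup N).map N.subtype = P := by
    show (P.subgroupOf N).map N.subtype = P
    exact Subgroup.map_subgroupOf_eq_of_le hPN
  rw [hmap] at hfr
  set A := Subgroup.normalizer (P : Set G) with hA
  have hidx : N.index = N.relIndex A := by
    conv_lhs => rw [← Subgroup.relIndex_top_right, ← hfr, Subgroup.relIndex_sup_right]
  let c : A →* MulAut P := P.normalizerMonoidHom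
  have hker : c.ker ≤ N.subgroupOf A := by
    intro a ha
    rw [Subgroup.mem_subgroupOf]
    refine hPN (hcent a ?_)
    have h := DFunLike.congr_fun (MonoidHom.mem_ker.1 ha) ⟨x, Subgroup.mem_zpowers x⟩
    have h' : (a : G) * x * (a : G)⁻¹ = x := congrArg Subtype.val h
    exact mul_inv_eq_iff_eq_mul.1 h'
  rw [hidx]
  refine ((Subgroup.index_dvd_of_le hker).trans ?_)
  rw [Subgroup.index_ker]
  refine (Subgroup.card_subgroup_dvd_card _).trans ?_
  rw [IsCyclic.card_mulAut, hPc, Nat.totient_prime Fact.out]

end CfsgLib.Leech.SelfCentSimple
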