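import Cfsg.Agent.Lib.Golay.M24Sub
import Cfsg.Agent.Lib.Golay.Spor

/-!
# The permutations of orders 23 and 11 and their centralisers in the automorphisms of the code
-/

set_option autoImplicit false

open scoped Pointwise

namespace CfsgLib.Leech.ConwaySimple

open Cfsg CfsgLib.Golay

/-- The list of images of a permutation. -/
def listOf (π : Equiv.Perm GolayPt) : List ℕ := (List.range 24).map fun i => (ptEquiv (π (pt i))).val

theorem getD_listOf (π : Equiv.Perm GolayPt) {i : ℕ} (hi : i < 24) :
    (listOf π).getD i 0 = (ptEquiv (π (pt i))).val := by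
  rw [listOf, List.getD_eq_getElem _ _ (by simp [hi])]
  simp

theorem validL_listOf (π : Equiv.Perm GolayPt) : validL 24 (listOf π) = true := by
  refine validL_iff.2 ⟨by simp [listOf], fun i hi => ?_, fun j hj => ?_⟩
  · obtain ⟨k, -, rfl⟩ := List.mem_map.1 hi
    exact (ptEquiv _).isLt
  · refine List.mem_map.2 ⟨(ptEquiv (π.symm (pt j))).val, List.mem_range.2 (ptEquiv _).isLt, ?_⟩
    rw [pt_ptEquiv, Equiv.apply_symm_apply, ptEquiv_pt hj]

theorem permOf_listOf (π : Equiv.Perm GolayPt) : permOf ptEquiv (listOf π) = π := by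
  refine Equiv.ext fun p => ?_
  apply ptEquiv.injective
  apply Fin.ext
  rw [permOf_apply ptEquiv (validL_listOf π), getD_listOf π (ptEquiv p).isLt, pt_ptEquiv]

theorem inCode_golayList : ∀ n ∈ golayList, inCode n = true :=
  forall_golayList (by decide +kernel)

theorem imgMask_lt {L : List ℕ} (h : validL 24 L = true) (n : ℕ) : imgMask L n < 2 ^ 24 := by
  refine Nat.lt_pow_two_of_testBit _ fun j hj => ?_
  by_contra hc
  simp only [Bool.not_eq_false] at hc
  obtain ⟨i, hi, -, rfl⟩ := testBit_imgMask.1 hc
  have := validL_getD_lt h hi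
  omega

/-- Elements of the group pass the test. -/
theorem test_of_mem {π : Equiv.Perm GolayPt} (hπ : π ∈ M24) :
    (golayBasis.all fun b => inCode (imgMask (listOf π) b)) = true := by
  rw [List.all_eq_true]
  intro b hb
  obtain ⟨n, hn, e⟩ := mem_supports.1
    (supports_smul hπ (mem_supports.2 ⟨b, mem_spanList_self hb, rfl⟩ : toSet b ∈ supports _))
  rw [← permOf_listOf π, smul_toSet (validL_listOf π)] at e
  rw [← toSet_inj (golayList_lt n hn) (imgMask_lt (validL_listOf π) b) e]
  exact inCode_golayList n hn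

/-- The translation, as a list. -/
def list23 : List ℕ := (List.range 24).map fun i => if i = 23 then 23 else (i + 1) % 23

/-- The doubling, as a list. -/
def list11 : List ℕ := (List.range 24).map fun i => if i = 23 then 23 else 2 * i % 23

/-- The element of order 23. -/
noncomputable def sig23 : M24 := ⟨permOf ptEquiv list23, mem_M24_of_test (by decide +kernel)⟩

/-- The element of order 11. -/
noncomputable def sig11 : M24 := ⟨permOf ptEquiv list11, mem_M24_of_test (by decide +kernel)⟩

theorem sig_apply {L : List ℕ} (h : validL 24 L = true) (p q : GolayPt)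
    (e : L.getD (ptEquiv p).val 0 = (ptEquiv q).val) : permOf ptEquiv L p = q :=
  ptEquiv.injective (Fin.ext (by rw [permOf_apply ptEquiv h, e]))

theorem sig23_none : sig23.1 none = none := sig_apply (L := list23) (by decide +kernel) _ _ (by decide +kernel)

theorem sig23_some (r : ZMod 23) : sig23.1 (some r) = some (r + 1) :=
  sig_apply (L := list23) (by decide +kernel) _ _ (by revert r; decide +kernel)

theorem sig11_none : sig11.1 none = none := sig_apply (L := list11) (by decide +kernel) _ _ (by decide +kernel)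

theorem sig11_some (r : ZMod 23) : sig11.1 (some r) = some (2 * r) :=
  sig_apply (L := list11) (by decide +kernel) _ _ (by revert r; decide +kernel)

theorem sig23_pow_none (k : ℕ) : (sig23.1 ^ k) none = none := by
  induction k with
  | zero => rfl
  | succ k ih => rw [pow_succ', Equiv.Perm.mul_apply, ih, sig23_none]

theorem sig23_pow_some (k : ℕ) (r : ZMod 23) : (sig23.1 ^ k) (some r) = some (r + k) := by
  induction k with
  | zero => simp
  | succ k ih => rw [pow_succ', Equiv.Perm.mul_apply, ih, sig23_some, Nat.cast_succ, add_assoc]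

theorem sig11_pow_none (k : ℕ) : (sig11.1 ^ k) none = none := by
  induction k with
  | zero => rfl
  | succ k ih => rw [pow_succ', Equiv.Perm.mul_apply, ih, sig11_none]

theorem sig11_pow_some (k : ℕ) (r : ZMod 23) : (sig11.1 ^ k) (some r) = some (2 ^ k * r) := by
  induction k with
  | zero => simp
  | succ k ih => rw [pow_succ', Equiv.Perm.mul_apply, ih, sig11_some, pow_succ']; ring_nf

theorem orderOf_sig23 : orderOf sig23 = 23 := by
  have hne : ¬ ((0 : ZMod 23) + 1 = 0) := by decide
  have : Fact (Nat.Prime 23) := ⟨by norm_num⟩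
  refine orderOf_eq_prime (Subtype.ext (Equiv.ext fun p => ?_)) fun h => ?_
  · rw [SubmonoidClass.coe_pow, OneMemClass.coe_one, Equiv.Perm.one_apply]
    rcases p with _ | r
    · exact sig23_pow_none 23
    · rw [sig23_pow_some, ZMod.natCast_self, add_zero]
  · have h' := congrArg (fun g : M24 => g.1 (some 0)) h
    simp only [sig23_some, OneMemClass.coe_one, Equiv.Perm.one_apply, Option.some.injEq] at h'
    exact hne h'

theorem orderOf_sig11 : orderOf sig11 = 11 := by
  have hne : ¬ ((2 : ZMod 23) * 1 = 1) := by decide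
  have : Fact (Nat.Prime 11) := ⟨by norm_num⟩
  refine orderOf_eq_prime (Subtype.ext (Equiv.ext fun p => ?_)) fun h => ?_
  · rw [SubmonoidClass.coe_pow, OneMemClass.coe_one, Equiv.Perm.one_apply]
    rcases p with _ | r
    · exact sig11_pow_none 11
    · rw [sig11_pow_some, show (2 : ZMod 23) ^ 11 = 1 by decide, one_mul]
  · have h' := congrArg (fun g : M24 => g.1 (some 1)) h
    simp only [sig11_some, OneMemClass.coe_one, Equiv.Perm.one_apply, Option.some.injEq] at h'
    exact hne h'

/-- A permutation fixing the extra point and commuting with the translation is one of its powers. -/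
theorem eq_pow23 {π : Equiv.Perm GolayPt} (h0 : π none = none) (hc : ∀ p, π (sig23.1 p) = sig23.1 (π p)) :
    ∃ k : ℕ, π = sig23.1 ^ k := by
  obtain ⟨a, ha⟩ : ∃ a : ZMod 23, π (some 0) = some a := by
    rcases e : π (some 0) with _ | a
    · exact absurd (π.injective (e.trans h0.symm)) (by simp)
    · exact ⟨a, rfl⟩
  have hnat : ∀ n : ℕ, π (some (n : ZMod 23)) = some ((n : ZMod 23) + a) := by
    intro n
    induction n with
    | zero => simpa using ha
    | succ n ih => rw [Nat.cast_succ, ← sig23_some, hc, ih, sig23_some]; congr 1; ring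
  refine ⟨a.val, Equiv.ext fun p => ?_⟩
  rcases p with _ | r
  · rw [h0, sig23_pow_none]
  · rw [sig23_pow_some, ZMod.natCast_rightInverse a, ← ZMod.natCast_rightInverse r, hnat]

/-- The images forced by those of `1` and `5`. -/
def cand (a b : ℕ) : List ℕ :=
  (List.range 24).map fun i =>
    if i = 0 ∨ i = 23 then i else
      match (List.range 11).find? fun k => 2 ^ k % 23 == i with
      | some k => 2 ^ k * a % 23
      | none =>
        match (List.range 11).find? fun k => 5 * 2 ^ k % 23 == i with
        | some k => 2 ^ k * b % 23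
        | none => 0

theorem cand_check : ∀ a b : Fin 23,
    (validL 24 (cand a.val b.val) && golayBasis.all fun c => inCode (imgMask (cand a.val b.val) c)) = true →
      ∃ k : Fin 11, cand a.val b.val = cand (2 ^ k.val % 23) (5 * 2 ^ k.val % 23) := by
  decide +kernel

/-- A permutation in the group fixing the extra point and the residue `0` and commuting with
the doubling is one of its powers. -/
theorem eq_pow11 {π : Equiv.Perm GolayPt} (hπ : π ∈ M24) (h0 : π none = none)
    (h1 : π (some 0) = some 0) (hc : ∀ p, π (sig11.1 p) = sig11.1 (π p)) :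
    ∃ k : ℕ, π = sig11.1 ^ k := by
  have key : ∀ (τ : Equiv.Perm GolayPt) (a b : ZMod 23), τ none = none → τ (some 0) = some 0 →
      (∀ p, τ (sig11.1 p) = sig11.1 (τ p)) → τ (some 1) = some a → τ (some 5) = some b →
      listOf τ = cand a.val b.val := by
    intro τ a b t0 t1 tc ta tb
    have hpow : ∀ (k : ℕ) (p : GolayPt), τ ((sig11.1 ^ k) p) = (sig11.1 ^ k) (τ p) := by
      intro k
      induction k with
      | zero => intro p; rfl
      | succ k ih => intro p; rw [pow_succ', Equiv.Perm.mul_apply, tc, ih, Equiv.Perm.mul_apply]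
    refine List.map_congr_left fun i hi => ?_
    rw [List.mem_range] at hi
    have hs : ∀ i : Fin 24, i.val = 0 ∧ pt i.val = some 0 ∨ i.val = 23 ∧ pt i.val = none ∨
        ∃ k : Fin 11, ((List.range 11).find? fun j => 2 ^ j % 23 == i.val) = some k.val ∧ i.val ≠ 0 ∧ i.val ≠ 23 ∧
            pt i.val = some (2 ^ k.val * 1) ∨
          ((List.range 11).find? fun j => 2 ^ j % 23 == i.val) = none ∧
            ((List.range 11).find? fun j => 5 * 2 ^ j % 23 == i.val) = some k.val ∧ i.val ≠ 0 ∧ i.val ≠ 23 ∧
            pt i.val = some (2 ^ k.val * 5) := by decide +kernel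
    have hz : ∀ (k : ℕ) (c : ZMod 23), (ptEquiv (some (2 ^ k * c) : GolayPt)).val = 2 ^ k * c.val % 23 := by
      intro k c
      rw [show (2 : ZMod 23) ^ k * c = ((2 ^ k * c.val : ℕ) : ZMod 23) by
        rw [Nat.cast_mul, Nat.cast_pow, ZMod.natCast_rightInverse c]; norm_num]
      have : ∀ r : ZMod 23, (ptEquiv (some r : GolayPt)).val = r.val := by decide +kernel
      rw [this, ZMod.val_natCast]
    rcases hs ⟨i, hi⟩ with ⟨e, hp⟩ | ⟨e, hp⟩ | ⟨k, ⟨hf, n0, n1, hp⟩ | ⟨hf, hf', n0, n1, hp⟩⟩
    · simp only at e hp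
      rw [hp, t1, ← hp, ptEquiv_pt hi, if_pos (Or.inl e)]
    · simp only at e hp
      rw [hp, t0, ← hp, ptEquiv_pt hi, if_pos (Or.inr e)]
    · simp only at n0 n1 hp hf
      rw [hp, if_neg (not_or.2 ⟨n0, n1⟩), hf, ← sig11_pow_some, hpow, ta, sig11_pow_some, hz]
    · simp only at n0 n1 hp hf hf'
      rw [hp, if_neg (not_or.2 ⟨n0, n1⟩), hf, hf', ← sig11_pow_some, hpow, tb, sig11_pow_some, hz]
  obtain ⟨a, ha⟩ : ∃ a : ZMod 23, π (some 1) = some a := by
    rcases e : π (some 1) with _ | a
    · exact absurd (π.injective (e.trans h0.symm)) (by simp)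
    · exact ⟨a, rfl⟩
  obtain ⟨b, hb⟩ : ∃ b : ZMod 23, π (some 5) = some b := by
    rcases e : π (some 5) with _ | a
    · exact absurd (π.injective (e.trans h0.symm)) (by simp)
    · exact ⟨a, rfl⟩
  have hl := key π a b h0 h1 hc ha hb
  obtain ⟨k, hk⟩ := cand_check ⟨a.val, a.val_lt⟩ ⟨b.val, b.val_lt⟩ (by
    rw [Bool.and_eq_true]
    exact ⟨hl ▸ validL_listOf π, hl ▸ test_of_mem hπ⟩)
  refine ⟨k.val, ?_⟩
  have hl' := key (sig11.1 ^ k.val) (2 ^ k.val * 1) (2 ^ k.val * 5) (sig11_pow_none _)
    (by rw [sig11_pow_some, mul_zero]) (fun p => by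
      rw [← Equiv.Perm.mul_apply, ← Equiv.Perm.mul_apply, (Commute.pow_self sig11.1 k.val).eq])
    (sig11_pow_some _ _) (sig11_pow_some _ _)
  rw [← permOf_listOf π, ← permOf_listOf (sig11.1 ^ k.val), hl, hl']
  congr 1
  have : ∀ k : Fin 11, ((2 : ZMod 23) ^ k.val * 1).val = 2 ^ k.val % 23 ∧
      ((2 : ZMod 23) ^ k.val * 5).val = 5 * 2 ^ k.val % 23 := by decide +kernel
  rw [(this k).1, (this k).2]
  exact hk

end CfsgLib.Leech.ConwaySimple
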