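import Cfsg.Agent.Lib.Leech.ConwaySimple.McL

/-!
# Simplicity of the third Conway group
-/

set_option autoImplicit false

open scoped Pointwise symmDiff

namespace CfsgLib.Leech.ConwaySimple

open Cfsg CfsgLib.Golay CfsgLib.Leech CfsgLib.Fusion.McLSimple

/-- The stabiliser of the vector of norm 48. -/
noncomputable def co3Stab : Subgroup Co0 := MulAction.stabilizer Co0 mU

theorem mem_co3Stab {g : Co0} : g ∈ co3Stab ↔ g • mU = mU := Iff.rfl

theorem index_co3Stab : co3Stab.index = 16773120 := by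
  have horb : MulAction.orbit Co0 mU = {x : leechLattice | sqNorm (x : GolayPt → ℤ) = 48} := by
    ext x
    constructor
    · rintro ⟨g, rfl⟩
      exact (sqNorm_smul_co g mU).trans mcl_dots.1
    · intro hx
      obtain ⟨g, hg⟩ := exists_smul_eq48 mcl_dots.1 hx
      exact ⟨g, hg⟩
  rw [co3Stab, MulAction.index_stabilizer, horb, ncard_subtype fun x => sqNorm x = 48]
  exact ncard_norm48

theorem card_co3Stab : Nat.card co3Stab = 495766656000 := by
  have := co3Stab.card_mul_index
  rw [index_co3Stab, card_co0] at this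
  exact Nat.eq_of_mul_eq_mul_right (by norm_num : 0 < 16773120) (this.trans (by norm_num))

theorem finite_co3Stab : Finite co3Stab := Nat.finite_of_card_ne_zero (by rw [card_co3Stab]; norm_num)

theorem s23_mem_co3 : s23 ∈ co3Stab := by
  refine mem_co3Stab.2 (permHom_fix fun p => ?_)
  rw [mclU_apply, mclU_apply]
  have : sig23.1 p = none ↔ p = none := by
    conv_lhs => rw [← sig23_none]
    exact sig23.1.injective.eq_iff
  simp only [this]

/-- The element of order 23 of the stabiliser. -/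
noncomputable def y23 : co3Stab := ⟨s23, s23_mem_co3⟩

theorem orderOf_y23 : orderOf y23 = 23 := by rw [← Subgroup.orderOf_coe]; exact orderOf_s23

theorem cent_y23 (g : co3Stab) (h : g * y23 = y23 * g) : g ∈ Subgroup.zpowers y23 := by
  obtain ⟨k, hk | hk⟩ := cent23 (congrArg Subtype.val h)
  · refine ⟨(k : ℤ), Subtype.ext ?_⟩
    show ((y23 ^ (k : ℤ) : co3Stab) : Co0) = g
    rw [zpow_natCast, SubmonoidClass.coe_pow, hk]
    rfl
  · exfalso
    have h1 : negAut • mU = mU := by
      have hg := mem_co3Stab.1 g.2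
      rwa [hk, mul_smul, mem_co3Stab.1 (Subgroup.pow_mem _ s23_mem_co3 k)] at hg
    have := congrArg (fun v : leechLattice => (v : GolayPt → ℤ) none) h1
    simp [coe_negAut_smul, mclU_apply] at this

theorem small_co3 (N : Subgroup co3Stab) (hN : N.Normal) (hp : ¬ 23 ∣ Nat.card N) : N = ⊥ := by
  have := finite_co3Stab
  have := hN
  have : Fact (Nat.Prime 23) := ⟨by norm_num⟩
  have : Fact (Nat.Prime 2) := ⟨by norm_num⟩
  have : Fact (Nat.Prime 3) := ⟨by norm_num⟩
  have : Fact (Nat.Prime 5) := ⟨by norm_num⟩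
  have : Fact (Nat.Prime 7) := ⟨by norm_num⟩
  have : Fact (Nat.Prime 11) := ⟨by norm_num⟩
  have e := SelfCentSimple.not_dvd_of_part orderOf_y23 cent_y23 hp
  rw [Subgroup.eq_bot_iff_card]
  refine Nat.dvd_one.1 (SelfCentSimple.dvd_of_parts (r := 2) (a := 0)
    (L := [(2, 10), (3, 7), (5, 3), (7, 1), (11, 1), (23, 1)]) (by rw [card_co3Stab]; norm_num) ?_)
  simp only [List.mem_cons, List.not_mem_nil, or_false, forall_eq_or_imp, forall_eq]
  exact ⟨⟨by norm_num, e 2 10 (by rw [card_co3Stab]; norm_num) (by decide)⟩,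
    ⟨by norm_num, e 3 7 (by rw [card_co3Stab]; norm_num) (by decide)⟩,
    ⟨by norm_num, e 5 3 (by rw [card_co3Stab]; norm_num) (by decide)⟩,
    ⟨by norm_num, e 7 1 (by rw [card_co3Stab]; norm_num) (by decide)⟩,
    ⟨by norm_num, e 11 1 (by rw [card_co3Stab]; norm_num) (by decide)⟩,
    ⟨by norm_num, hp⟩⟩

/-- Twice the characteristic vector of an octad. -/
def twos (n : ℕ) (h : CodeSet (toSet n)) : leechLattice :=
  ⟨fun p => 2 * indi (toSet n) p + 4 * (0 : GolayPt → ℤ) p, two_code_mem_leech h 0 (by simp)⟩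

/-- Three octads through the two special points. -/
theorem trio_code : CodeSet (toSet 13062145) ∧ CodeSet (toSet 9471495) ∧ CodeSet (toSet 9347075) :=
  ⟨mem_supports.2 ⟨_, mem_golayList_of_inCode (by decide +kernel), rfl⟩,
    mem_supports.2 ⟨_, mem_golayList_of_inCode (by decide +kernel), rfl⟩,
    mem_supports.2 ⟨_, mem_golayList_of_inCode (by decide +kernel), rfl⟩⟩

/-- The first of the three vectors. -/
def tA : leechLattice := twos 13062145 trio_code.1

/-- The second of the three vectors. -/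
def tB : leechLattice := twos 9471495 trio_code.2.1

/-- The third of the three vectors. -/
def tC : leechLattice := twos 9347075 trio_code.2.2

theorem trio_dots :
    (sqNorm (tA : GolayPt → ℤ) = 32 ∧ dotInt (mU : GolayPt → ℤ) tA = 24) ∧
    (sqNorm (tB : GolayPt → ℤ) = 32 ∧ dotInt (mU : GolayPt → ℤ) tB = 24) ∧
    (sqNorm (tC : GolayPt → ℤ) = 32 ∧ dotInt (mU : GolayPt → ℤ) tC = 24) ∧
    dotInt (Spor.leechU : GolayPt → ℤ) tA = 16 ∧ dotInt (Spor.leechU : GolayPt → ℤ) tB = 16 ∧
    dotInt (Spor.leechU : GolayPt → ℤ) tC = 16 ∧ dotInt (tA : GolayPt → ℤ) tB = 8 ∧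
    dotInt (tA : GolayPt → ℤ) tC = 16 := by decide +kernel

/-- Stabilisers of pairs are simple subgroups of order 898128000. -/
theorem pair_stab_co3 {N : Subgroup co3Stab} [N.Normal] (h : N.index ∣ 22) {w : leechLattice}
    (hw : sqNorm (w : GolayPt → ℤ) = 32) (hd : dotInt (mU : GolayPt → ℤ) w = 24) :
    MulAction.stabilizer co3Stab w ≤ N ∧ Nat.card (MulAction.stabilizer co3Stab w) = 898128000 := by
  have := finite_co3Stab
  obtain ⟨e⟩ := equiv_mclStab mcl_dots.1 hw hd
  have f : MulAction.stabilizer co3Stab w ≃*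
      ↥(MulAction.stabilizer Co0 mU ⊓ MulAction.stabilizer Co0 w) :=
    { toFun := fun g => ⟨g.1.1, g.1.2, g.2⟩
      invFun := fun g => ⟨⟨g.1, g.2.1⟩, g.2.2⟩
      left_inv := fun _ => rfl
      right_inv := fun _ => rfl
      map_mul' := fun _ _ => rfl }
  have := isSimple_mclStab
  have hc : Nat.card (MulAction.stabilizer co3Stab w) = 898128000 :=
    (Nat.card_congr (f.trans e).toEquiv).trans card_mclStab
  refine ⟨SelfCentSimple.le_of_simple (f.trans e).isSimpleGroup ?_, hc⟩
  rw [hc]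
  exact lt_of_le_of_lt (Nat.le_of_dvd (by norm_num) h) (by norm_num)

theorem large_co3 (N : Subgroup co3Stab) (hN : N.Normal) (hi : N.index ∣ 23 - 1) : N = ⊤ := by
  have := finite_co3Stab
  have := hN
  rw [← Subgroup.index_eq_one]
  obtain ⟨⟨nA, dA⟩, ⟨nB, dB⟩, ⟨nC, dC⟩, uA, uB, uC, hAB, hAC⟩ := trio_dots
  have hidx : ∀ {w : leechLattice}, sqNorm (w : GolayPt → ℤ) = 32 → dotInt (mU : GolayPt → ℤ) w = 24 →
      (MulAction.stabilizer co3Stab w).index = 552 := by
    intro w hw hd
    have h1 := (MulAction.stabilizer co3Stab w).card_mul_index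
    rw [(pair_stab_co3 hi hw hd).2, card_co3Stab] at h1
    omega
  have h2 : N.index ∣ 2 := by
    have h1 := Subgroup.index_dvd_of_le (pair_stab_co3 hi mcl_dots.2.1 mcl_dots.2.2).1
    rw [hidx mcl_dots.2.1 mcl_dots.2.2] at h1
    have := Nat.dvd_gcd hi h1
    rwa [show Nat.gcd (23 - 1) 552 = 2 by decide] at this
  rcases (Nat.dvd_prime Nat.prime_two).1 h2 with h | h
  · exact h
  exfalso
  set O : leechLattice → Set leechLattice := fun w => MulAction.orbit N w
  -- neighbours of a vector lie in one orbit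
  have hnb : ∀ {w z z' : leechLattice}, sqNorm (w : GolayPt → ℤ) = 32 → dotInt (mU : GolayPt → ℤ) w = 24 →
      sqNorm (z : GolayPt → ℤ) = 32 → dotInt (mU : GolayPt → ℤ) z = 24 → dotInt (w : GolayPt → ℤ) z = 16 →
      sqNorm (z' : GolayPt → ℤ) = 32 → dotInt (mU : GolayPt → ℤ) z' = 24 → dotInt (w : GolayPt → ℤ) z' = 16 →
      z' ∈ O z := by
    intro w z z' hw hdw hz hdz hwz hz' hdz' hwz'
    obtain ⟨g, h1, h2, h3⟩ := exists_map_triple
      (exists_triple_mcl mcl_dots.1 hw hz hdw hdz hwz) (exists_triple_mcl mcl_dots.1 hw hz' hdw hdz' hwz')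
    exact ⟨⟨⟨g, h3⟩, (pair_stab_co3 hi hw hdw).1 (show g • w = w from h1)⟩, h2⟩
  -- adjacent vectors lie in one orbit
  have hadj : ∀ {w z : leechLattice}, sqNorm (w : GolayPt → ℤ) = 32 → dotInt (mU : GolayPt → ℤ) w = 24 →
      sqNorm (z : GolayPt → ℤ) = 32 → dotInt (mU : GolayPt → ℤ) z = 24 → dotInt (w : GolayPt → ℤ) z = 16 →
      z ∈ O w := by
    intro w z hw hdw hz hdz hwz
    have h0 : tA ∈ O Spor.leechU := hnb nC dC mcl_dots.2.1 mcl_dots.2.2
      (by rw [dotInt_comm]; exact uC) nA dA (by rw [dotInt_comm]; exact hAC)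
    obtain ⟨⟨n, hn⟩, hnA⟩ := h0
    obtain ⟨g, h1, h2, h3⟩ := exists_map_triple
      (exists_triple_mcl mcl_dots.1 mcl_dots.2.1 nA mcl_dots.2.2 dA uA)
      (exists_triple_mcl mcl_dots.1 hw hz hdw hdz hwz)
    refine ⟨⟨⟨g, h3⟩ * n * (⟨g, h3⟩ : co3Stab)⁻¹, hN.conj_mem n hn _⟩, ?_⟩
    show ((⟨g, h3⟩ : co3Stab) * n * (⟨g, h3⟩ : co3Stab)⁻¹) • w = z
    have hg1 : (⟨g, h3⟩ : co3Stab) • Spor.leechU = w := h1
    have hg2 : (⟨g, h3⟩ : co3Stab) • tA = z := h2
    rw [← hg1, mul_smul, inv_smul_smul, mul_smul, ← hg2]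
    exact congrArg _ hnA
  -- a vector and its complement lie in one orbit
  set B' := mU - tB with hB'
  have nB' : sqNorm (B' : GolayPt → ℤ) = 32 := by
    rw [hB', AddSubgroup.coe_sub, sqNorm_sub, mcl_dots.1, dB, nB]; norm_num
  have dB' : dotInt (mU : GolayPt → ℤ) B' = 24 := by
    rw [hB', AddSubgroup.coe_sub, dotInt_sub_right, dB, dotInt_self, mcl_dots.1]; norm_num
  have hY : B' ∈ O tB := by
    have a1 : tA ∈ O tB := hnb mcl_dots.2.1 mcl_dots.2.2 nB dB uB nA dA uA
    have a2 : B' ∈ O tA := hadj nA dA nB' dB' (by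
      rw [hB', AddSubgroup.coe_sub, dotInt_sub_right, hAB, dotInt_comm, dA]; norm_num)
    show B' ∈ MulAction.orbit N tB
    rw [← MulAction.orbit_eq_iff.2 a1]
    exact a2
  have hsize : (O tB).ncard = 276 := by
    show (MulAction.orbit N tB).ncard = 276
    rw [← MulAction.index_stabilizer]
    have e : MulAction.stabilizer N tB = (MulAction.stabilizer co3Stab tB).subgroupOf N := by
      ext k; rfl
    rw [e]
    show (MulAction.stabilizer co3Stab tB).relIndex N = 276
    have := Subgroup.relIndex_mul_index (pair_stab_co3 hi nB dB).1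
    rw [h, hidx nB dB] at this
    omega
  set A := {z : leechLattice | sqNorm (z : GolayPt → ℤ) = 32 ∧ dotInt (mU : GolayPt → ℤ) z = 24 ∧
      dotInt (tB : GolayPt → ℤ) z = 16}
  have hA : A.ncard = 275 := ncard_mclPair mcl_dots.1 nB dB
  have hself : dotInt (tB : GolayPt → ℤ) tB = 32 := by rw [dotInt_self, nB]
  have hBd : dotInt (tB : GolayPt → ℤ) B' = -8 := by
    rw [hB', AddSubgroup.coe_sub, dotInt_sub_right, dotInt_comm, dB, hself]; norm_num
  have hfin : A.Finite := Set.finite_of_ncard_ne_zero (by omega)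
  have hn1 : tB ∉ A := fun hh => by have := hh.2.2; omega
  have hn2 : B' ∉ insert tB A := by
    rintro (e | hh)
    · rw [e] at hBd; omega
    · have := hh.2.2; omega
  have hsub : insert B' (insert tB A) ⊆ O tB := by
    rintro z (rfl | rfl | hz)
    · exact hY
    · exact MulAction.mem_orbit_self _
    · exact hadj nB dB hz.1 hz.2.1 hz.2.2
  have := Set.ncard_le_ncard hsub (Set.finite_of_ncard_ne_zero (by omega))
  rw [Set.ncard_insert_of_notMem hn2 (hfin.insert _), Set.ncard_insert_of_notMem hn1 hfin] at this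
  omega

theorem isCo3_stab : IsCo3 co3Stab := by
  have := finite_co3Stab
  have : Fact (Nat.Prime 23) := ⟨by norm_num⟩
  exact ⟨SelfCentSimple.isSimple orderOf_y23 cent_y23 (by rw [card_co3Stab]; norm_num) small_co3 large_co3,
    card_co3Stab⟩

/-- The stabiliser of any vector of norm 48. -/
theorem isCo3_of_norm {v : leechLattice} (hv : sqNorm (v : GolayPt → ℤ) = 48) :
    IsCo3 (MulAction.stabilizer Co0 v) := by
  obtain ⟨g, hg⟩ := exists_smul_eq48 mcl_dots.1 hv
  let e : co3Stab ≃* MulAction.stabilizer Co0 v :=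
    MulAction.stabilizerEquivStabilizer (g := g) (a := mU) (b := v) hg.symm
  obtain ⟨hs, hc⟩ := isCo3_stab
  exact ⟨e.symm.isSimpleGroup, (Nat.card_congr e.symm.toEquiv).trans hc⟩

end CfsgLib.Leech.ConwaySimple
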