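import Cfsg.Agent.Lib.Leech.ConwaySimple.Co3

/-!
# Simplicity of the second Conway group
-/

set_option autoImplicit false

open scoped Pointwise symmDiff

namespace CfsgLib.Leech.ConwaySimple

open Cfsg CfsgLib.Golay CfsgLib.Leech

/-- The stabiliser of the standard minimal vector. -/
noncomputable def co2Stab : Subgroup Co0 := MulAction.stabilizer Co0 stdV

theorem mem_co2Stab {g : Co0} : g ∈ co2Stab ↔ g • stdV = stdV := Iff.rfl

theorem index_co2Stab : co2Stab.index = 196560 := by
  have horb : MulAction.orbit Co0 stdV = {x : leechLattice | sqNorm (x : GolayPt → ℤ) = 32} := by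
    ext x
    constructor
    · rintro ⟨g, rfl⟩
      exact (sqNorm_smul_co g stdV).trans std_dots.2.1
    · intro hx
      obtain ⟨g, hg⟩ := exists_smul_eq32 (v := stdV) std_dots.2.1 hx
      exact ⟨g, hg⟩
  rw [co2Stab, MulAction.index_stabilizer, horb, ncard_subtype fun x => sqNorm x = 32]
  exact ncard_norm32

theorem card_co2Stab : Nat.card co2Stab = 42305421312000 := by
  have := co2Stab.card_mul_index
  rw [index_co2Stab, card_co0] at this
  exact Nat.eq_of_mul_eq_mul_right (by norm_num : 0 < 196560) (this.trans (by norm_num))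

theorem finite_co2Stab : Finite co2Stab := Nat.finite_of_card_ne_zero (by rw [card_co2Stab]; norm_num)

/-- The minimal vector with `-3` at the extra point. -/
noncomputable def vOdd : leechLattice := mU - baseVec

theorem vOdd_apply : ∀ p, (vOdd : GolayPt → ℤ) p = if p = none then -3 else 1 := by decide +kernel

theorem sqNorm_vOdd : sqNorm (vOdd : GolayPt → ℤ) = 32 := by decide +kernel

theorem exists_z23 : ∃ z : co2Stab, orderOf z = 23 ∧ ∀ g : co2Stab, g * z = z * g → g ∈ Subgroup.zpowers z := by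
  have := finite_co2Stab
  obtain ⟨a, ha⟩ := exists_smul_eq32 sqNorm_vOdd (w := stdV) std_dots.2.1
  have hfix : s23 • vOdd = vOdd := permHom_fix fun p => by
    rw [vOdd_apply, vOdd_apply]
    have : sig23.1 p = none ↔ p = none := by
      conv_lhs => rw [← sig23_none]
      exact sig23.1.injective.eq_iff
    simp only [this]
  have hmem : a * s23 * a⁻¹ ∈ co2Stab := by
    rw [mem_co2Stab, mul_smul, mul_smul, ← ha, inv_smul_smul, hfix]
  refine ⟨⟨_, hmem⟩, ?_, fun g hg => ?_⟩
  · rw [← Subgroup.orderOf_coe]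
    show orderOf (MulAut.conj a s23) = 23
    exact (orderOf_injective (MulAut.conj a).toMonoidHom (MulAut.conj a).injective s23).trans orderOf_s23
  · have h : g.1 * (a * s23 * a⁻¹) = a * s23 * a⁻¹ * g.1 := congrArg Subtype.val hg
    have hc : (a⁻¹ * g.1 * a) * s23 = s23 * (a⁻¹ * g.1 * a) := by
      rw [show a⁻¹ * g.1 * a * s23 = a⁻¹ * (g.1 * (a * s23 * a⁻¹)) * a by group, h]; group
    obtain ⟨k, hk | hk⟩ := cent23 hc
    · refine ⟨(k : ℤ), Subtype.ext ?_⟩
      show (((⟨_, hmem⟩ : co2Stab) ^ (k : ℤ) : co2Stab) : Co0) = g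
      rw [zpow_natCast, SubmonoidClass.coe_pow]
      show (a * s23 * a⁻¹) ^ k = g.1
      rw [conj_pow, ← hk]; group
    · exfalso
      have h1 : (a⁻¹ * g.1 * a) • vOdd = vOdd := by
        rw [mul_smul, mul_smul, ha, mem_co2Stab.1 g.2, ← ha, inv_smul_smul]
      have h2 : (s23 ^ k) • vOdd = vOdd :=
        (MulAction.stabilizer Co0 vOdd).pow_mem (show s23 ∈ MulAction.stabilizer Co0 vOdd from hfix) k
      rw [hk, mul_smul, h2] at h1
      have := congrArg (fun v : leechLattice => (v : GolayPt → ℤ) none) h1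
      simp [coe_negAut_smul, vOdd_apply] at this

/-- The two points of the standard vector. -/
def pair01 : Finset GolayPt := {pt 0, pt 1}

theorem pt01_ne : pt 0 ≠ pt 1 := by decide +kernel

theorem base32_apply (p : GolayPt) : (stdV : GolayPt → ℤ) p = if p ∈ pair01 then 4 else 0 := by
  show base32 p = _
  simp [base32, pair01]

theorem monoAut_fix_iff {π : Equiv.Perm GolayPt} {hπ : π ∈ M24} {c : Finset GolayPt} {hc : CodeSet c} :
    monoAut π hπ c hc • stdV = stdV ↔ (∀ p, π p ∈ pair01 ↔ p ∈ pair01) ∧ ∀ p ∈ pair01, p ∉ c := by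
  constructor
  · intro h
    have hval : ∀ p, (if π p ∈ c then -(if p ∈ pair01 then (4 : ℤ) else 0) else (if p ∈ pair01 then 4 else 0)) =
        if π p ∈ pair01 then 4 else 0 := by
      intro p
      have e := congrArg (fun v : leechLattice => (v : GolayPt → ℤ) (π p)) h
      rw [coe_monoAut_smul] at e
      simp only [signedPerm, Equiv.symm_apply_apply, base32_apply] at e
      exact e
    have h1 : ∀ p, π p ∈ pair01 ↔ p ∈ pair01 := fun p => by
      have := hval p
      by_cases a : p ∈ pair01 <;> by_cases b : π p ∈ pair01 <;> simp [a, b] at this ⊢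
      split at this <;> omega
    refine ⟨h1, fun q hq hc' => ?_⟩
    have := hval (π.symm q)
    have hq' : π.symm q ∈ pair01 := (h1 _).1 (by simpa using hq)
    simp [hq, hq', hc'] at this
  · rintro ⟨h1, h2⟩
    refine Subtype.ext (funext fun i => ?_)
    rw [coe_monoAut_smul]
    simp only [signedPerm, base32_apply]
    have := h1 (π.symm i)
    rw [Equiv.apply_symm_apply] at this
    by_cases a : i ∈ pair01
    · rw [if_neg (h2 i a), if_pos a, if_pos (this.1 a)]
    · rw [if_neg a, if_neg (mt this.2 a)]; simp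

theorem card_pairStab : Nat.card {π : M24 // ∀ p, π.1 p ∈ pair01 ↔ p ∈ pair01} = 887040 := by
  classical
  have e : Nat.card {π : M24 // ∀ p, π.1 p ∈ pair01 ↔ p ∈ pair01} =
      Nat.card (MulAction.stabilizer M24 pair01) := by
    refine Nat.card_congr (Equiv.subtypeEquivRight fun π => ?_)
    rw [MulAction.mem_stabilizer_iff]
    constructor
    · intro h
      ext q
      rw [← Finset.inv_smul_mem_iff]
      have := h (π.1.symm q)
      rw [Equiv.apply_symm_apply] at this
      exact this.symm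
    · intro h p
      conv_lhs => rw [← h]
      exact Finset.smul_mem_smul_finset_iff _
  have horb : MulAction.orbit M24 pair01 = {s : Finset GolayPt | s.card = 2} := by
    ext s
    constructor
    · rintro ⟨g, rfl⟩
      show (g • pair01).card = 2
      rw [Finset.card_smul_finset]; rfl
    · intro hs
      obtain ⟨a, b, hab, rfl⟩ := Finset.card_eq_two.1 hs
      obtain ⟨g, hg, h0, h1⟩ := M24_map_two pt01_ne hab
      refine ⟨⟨g, hg⟩, ?_⟩
      show g • pair01 = _
      rw [pair01, Finset.smul_finset_insert, Finset.smul_finset_singleton, Equiv.Perm.smul_def,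
        Equiv.Perm.smul_def, h0, h1]
  have h2 : {s : Finset GolayPt | s.card = 2}.ncard = 276 := by
    rw [show {s : Finset GolayPt | s.card = 2} = ((Finset.univ : Finset GolayPt).powersetCard 2 : Set _) by
      ext s; simp, Set.ncard_coe_finset, Finset.card_powersetCard, Finset.card_univ, card_golayPt]
    decide
  have h3 := (MulAction.stabilizer M24 pair01).card_mul_index
  rw [MulAction.index_stabilizer, horb, h2, card_M24] at h3
  exact e.trans (Nat.eq_of_mul_eq_mul_right (by norm_num : 0 < 276) (h3.trans (by norm_num)))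

theorem card_avoid : Nat.card {c : Finset GolayPt // CodeSet c ∧ ∀ p ∈ pair01, p ∉ c} = 1024 := by
  classical
  set P : ℕ → Bool := fun n => !(n.testBit 0) && !(n.testBit 1)
  set l := golayList.filter P with hl
  have h : {c : Finset GolayPt | CodeSet c ∧ ∀ p ∈ pair01, p ∉ c} = toSet '' (↑l.toFinset : Set ℕ) := by
    ext s
    simp only [Set.mem_ofPred_eq, pair01, Finset.mem_insert, Finset.mem_singleton, forall_eq_or_imp, forall_eq,
      Set.mem_image, List.coe_toFinset, hl, List.mem_filter, P, Bool.and_eq_true, Bool.not_eq_true']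
    constructor
    · rintro ⟨hs, h0, h1⟩
      obtain ⟨n, hn, rfl⟩ := mem_supports.1 hs
      rw [pt_mem_toSet (by norm_num), Bool.not_eq_true] at h0 h1
      exact ⟨n, ⟨hn, h0, h1⟩, rfl⟩
    · rintro ⟨n, ⟨hn, h0, h1⟩, rfl⟩
      refine ⟨mem_supports.2 ⟨n, hn, rfl⟩, ?_⟩
      rw [pt_mem_toSet (by norm_num), pt_mem_toSet (by norm_num), h0, h1]
      simp
  show Nat.card ({c : Finset GolayPt | CodeSet c ∧ ∀ p ∈ pair01, p ∉ c} : Set _) = 1024
  rw [Nat.card_coe_set_eq, h, Set.InjOn.ncard_image, Set.ncard_coe_finset, List.toFinset_card_of_nodup,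
    hl, ← List.countP_eq_length_filter, countP_golayList]
  · decide +kernel
  · exact golayList_nodup.filter _
  · intro a ha b hb hab
    simp only [hl, List.coe_toFinset, List.mem_filter, Set.mem_ofPred_eq] at ha hb
    exact toSet_injOn a ha.1 b hb.1 hab

theorem index_monoStab : (crossStab.subgroupOf co2Stab).index = 46575 := by
  let φ : {π : M24 // ∀ p, π.1 p ∈ pair01 ↔ p ∈ pair01} ×
      {c : Finset GolayPt // CodeSet c ∧ ∀ p ∈ pair01, p ∉ c} → crossStab.subgroupOf co2Stab :=
    fun a => ⟨⟨monoAut a.1.1.1 a.1.1.2 a.2.1 a.2.2.1, monoAut_fix_iff.2 ⟨a.1.2, a.2.2.2⟩⟩,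
      monoAut_mem _ _ _ _⟩
  have hφ : Function.Bijective φ := by
    refine ⟨fun a b h => ?_, fun g => ?_⟩
    · obtain ⟨h1, h2⟩ := monoAut_injective (congrArg (fun g => g.1.1) h)
      exact Prod.ext (Subtype.ext (Subtype.ext h1)) (Subtype.ext h2)
    · obtain ⟨σ, hσ, c, hc, h⟩ := exists_monoAut_of_mem g.2
      have hfix := mem_co2Stab.1 g.1.2
      change g.1.1 • stdV = stdV at hfix
      rw [show (g.1.1 : Co0) = monoAut σ hσ c hc from h, monoAut_fix_iff] at hfix
      exact ⟨(⟨⟨σ, hσ⟩, hfix.1⟩, ⟨c, hc, hfix.2⟩), Subtype.ext (Subtype.ext h.symm)⟩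
  have hcard : Nat.card (crossStab.subgroupOf co2Stab) = 908328960 := by
    rw [← Nat.card_eq_of_bijective φ hφ, Nat.card_prod, card_pairStab, card_avoid]
  have := (crossStab.subgroupOf co2Stab).card_mul_index
  rw [hcard, card_co2Stab] at this
  omega

/-- An element fixing the standard vector and taking the cross of `y` to the standard one. -/
theorem exists_to_std_co2 {y : leechLattice} (hy : sqNorm (y : GolayPt → ℤ) = 64)
    (hd : dotInt (y : GolayPt → ℤ) stdV = 32) :
    ∃ h : Co0, h • stdV = stdV ∧ ∀ z, z ∈ leechEven.cls8 y ↔ h • z ∈ stdSet := by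
  have h8 : leechEven.b y y = 8 := inner_self_of_norm (by rw [hy]; norm_num)
  obtain ⟨a, ha⟩ := exists_to_std h8
  set y' := (2 : ℤ) • stdV - y with hy'
  have hn' : sqNorm (y' : GolayPt → ℤ) = 64 := by
    rw [hy', AddSubgroup.coe_sub, AddSubgroup.coe_zsmul, sqNorm_sub, sqNorm_smul, dotInt_comm,
      two_smul, dotInt_add_right, hy, hd, show sqNorm (stdV : GolayPt → ℤ) = 32 from std_dots.2.1]
    norm_num
  have hmem : y' ∈ leechEven.cls8 y := ⟨inner_self_of_norm (by rw [hn']; norm_num),
    ⟨y - stdV, by rw [hy', zsmulAddGroupHom_apply, smul_sub]; abel⟩⟩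
  obtain ⟨p, t, ht, hpt⟩ := mem_stdSet.1 ((ha y).1 (self_mem_cls8 h8))
  obtain ⟨q, u, hu, hqu⟩ := mem_stdSet.1 ((ha y').1 hmem)
  have hne : p ≠ q := by
    intro e
    subst e
    have h := dot_smul_co a y y'
    rw [hpt, hqu, dotInt_single, Pi.single_eq_same, hy', AddSubgroup.coe_sub, dotInt_sub_right,
      AddSubgroup.coe_zsmul, two_smul, dotInt_add_right, hd, dotInt_self, hy] at h
    rcases ht with rfl | rfl <;> rcases hu with rfl | rfl <;> norm_num at h
  obtain ⟨σ, hσ, hσp, hσq⟩ := M24_map_two hne pt01_ne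
  obtain ⟨n, -, hn, hb, hc'⟩ := pair_signs (decide (t = -8)) (decide (u = -8))
  have hcs : CodeSet (toSet n) := mem_supports.2 ⟨n, hn, rfl⟩
  refine ⟨monoAut σ hσ _ hcs * a, ?_, fun z => ?_⟩
  · refine Subtype.ext (funext fun i => ?_)
    have h2 : a • y + a • y' = (2 : ℤ) • (a • stdV) := by
      rw [← smul_add', ← smul_zsmul', hy', add_sub_cancel]
    have h3 := congrFun (congrArg (fun u : leechLattice => (u : GolayPt → ℤ)) h2) (σ.symm i)
    simp only [AddSubgroup.coe_add, hpt, hqu, AddSubgroup.coe_zsmul, Pi.add_apply, Pi.smul_apply,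
      smul_eq_mul] at h3
    rw [mul_smul, coe_monoAut_smul]
    simp only [signedPerm]
    show _ = base32 i
    simp only [base32]
    by_cases h0 : i = pt 0
    · subst h0
      have e : σ.symm (pt 0) = p := by rw [← hσp, Equiv.symm_apply_apply]
      rw [e, Pi.single_eq_same, Pi.single_eq_of_ne hne] at h3
      rw [e, if_pos (Or.inl rfl)]
      have hm : pt 0 ∈ toSet n ↔ t = -8 := by rw [pt_mem_toSet (by omega), hb, decide_eq_true_eq]
      by_cases hh : pt 0 ∈ toSet n
      · rw [if_pos hh]; have := hm.1 hh; omega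
      · rw [if_neg hh]; have := mt hm.2 hh; omega
    · by_cases h1 : i = pt 1
      · subst h1
        have e : σ.symm (pt 1) = q := by rw [← hσq, Equiv.symm_apply_apply]
        rw [e, Pi.single_eq_same, Pi.single_eq_of_ne hne.symm] at h3
        rw [e, if_pos (Or.inr rfl)]
        have hm : pt 1 ∈ toSet n ↔ u = -8 := by rw [pt_mem_toSet (by omega), hc', decide_eq_true_eq]
        by_cases hh : pt 1 ∈ toSet n
        · rw [if_pos hh]; have := hm.1 hh; omega
        · rw [if_neg hh]; have := mt hm.2 hh; omega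
      · have n1 : σ.symm i ≠ p := fun h => h0 (by rw [← hσp, ← h, Equiv.apply_symm_apply])
        have n2 : σ.symm i ≠ q := fun h => h1 (by rw [← hσq, ← h, Equiv.apply_symm_apply])
        rw [Pi.single_eq_of_ne n1, Pi.single_eq_of_ne n2] at h3
        rw [if_neg (not_or.2 ⟨h0, h1⟩)]
        split <;> omega
  · rw [ha, mul_smul]
    have hs : monoAut σ hσ _ hcs • stdSet = stdSet := monoAut_mem σ hσ _ hcs
    conv_rhs => rw [← hs]
    rw [Set.smul_mem_smul_set_iff]

theorem eq_one_of_fix_co2 {g : co2Stab} (hg : g.1 ∈ crossStab)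
    (h : ∀ y : leechLattice, sqNorm (y : GolayPt → ℤ) = 64 → dotInt (y : GolayPt → ℤ) stdV = 32 →
      FixCls g.1 y) : g = 1 := by
  classical
  obtain ⟨π, hπ, c, hc, e⟩ := exists_monoAut_of_mem hg
  have hfix : monoAut π hπ c hc • stdV = stdV := by rw [← e]; exact g.2
  obtain ⟨hset, havoid⟩ := monoAut_fix_iff.1 hfix
  have key : ∀ s t : GolayPt, s ∉ pair01 → t ∉ pair01 → s ≠ t →
      (π s = s ∨ π s = t) ∧ (π s = s → π t = t → (s ∈ c ↔ t ∈ c)) := by
    intro s t hs ht hst
    obtain ⟨r, -, hr⟩ := Finset.exists_mem_notMem_of_card_lt_card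
      (s := insert s (insert t pair01)) (t := Finset.univ) (by
        rw [Finset.card_univ, card_golayPt]
        have h1 := Finset.card_insert_le s (insert t pair01)
        have h2 := Finset.card_insert_le t pair01
        have h3 : pair01.card = 2 := by rfl
        omega)
    simp only [Finset.mem_insert, not_or] at hr
    set A := insert r pair01
    have hsA : s ∉ A := by simp [A, hs, Ne.symm hr.1]
    have htA : t ∉ A := by simp [A, ht, Ne.symm hr.2.1]
    have hA3 : A.card = 3 := by rw [Finset.card_insert_of_notMem hr.2.2]; rfl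
    have c1 : (insert s A).card = 4 := by rw [Finset.card_insert_of_notMem hsA, hA3]
    have c2 : (insert t A).card = 4 := by rw [Finset.card_insert_of_notMem htA, hA3]
    have h1 : 2 ∣ (insert s A).card := by omega
    have h2 : 2 ∣ (insert t A).card := by omega
    have hy : ∀ (a : GolayPt) (ha : 2 ∣ (insert a A).card), (insert a A).card = 4 →
        FixCls g.1 (fours _ ha) := by
      intro a ha ha4
      refine h _ (by rw [sqNorm_fours, ha4]; norm_num) ?_
      show dotInt ((fours _ ha : leechLattice) : GolayPt → ℤ) base32 = 32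
      rw [dotInt_base32, coe_fours]
      simp [indi, A, pair01]
    refine pair_fixed (hπ := hπ) (hc := hc) hst (fours_sub hsA htA h1 h2) ?_
    rw [← e]
    exact FixCls.eq_or_neg ((hy s h1 c1).sub (hy t h2 c2))
      (by rw [fours_sub hsA htA h1 h2, sqNorm_diffVec hst])
  have hπ2 : ∀ s, s ∉ pair01 → π s = s := by
    intro s hs
    obtain ⟨t, -, ht⟩ := Finset.exists_mem_notMem_of_card_lt_card
      (s := insert s pair01) (t := Finset.univ) (by
        rw [Finset.card_univ, card_golayPt]
        have h1 := Finset.card_insert_le s pair01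
        have h3 : pair01.card = 2 := by rfl
        omega)
    obtain ⟨u, -, hu⟩ := Finset.exists_mem_notMem_of_card_lt_card
      (s := insert t (insert s pair01)) (t := Finset.univ) (by
        rw [Finset.card_univ, card_golayPt]
        have h1 := Finset.card_insert_le t (insert s pair01)
        have h2 := Finset.card_insert_le s pair01
        have h3 : pair01.card = 2 := by rfl
        omega)
    simp only [Finset.mem_insert, not_or] at ht hu
    rcases (key s t hs ht.2 (Ne.symm ht.1)).1 with a | a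
    · exact a
    rcases (key s u hs hu.2.2 (Ne.symm hu.2.1)).1 with b | b
    · exact b
    · exact absurd (a.symm.trans b) (Ne.symm hu.1)
  obtain rfl : π = 1 := eq_one_of_fix hπ pt01_ne fun p a b => hπ2 p (by simp [pair01, a, b])
  have hc0 : c = ∅ := by
    by_contra hne
    obtain ⟨p, hp⟩ := Finset.nonempty_iff_ne_empty.2 hne
    have hp' : p ∉ pair01 := fun hh => havoid p hh hp
    have hce : c = Finset.univ \ pair01 := by
      ext q
      simp only [Finset.mem_sdiff, Finset.mem_univ, true_and]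
      refine ⟨fun hq hh => havoid q hh hq, fun hq => ?_⟩
      rcases eq_or_ne p q with rfl | hne
      · exact hp
      · exact ((key p q hp' hq hne).2 rfl rfl).1 hp
    have hd := codeSet_card_dvd hc
    rw [hce, show (Finset.univ \ pair01).card = 22 by decide +kernel] at hd
    omega
  subst hc0
  exact Subtype.ext (e.trans ((monoAut_empty 1 hπ).trans (map_one permHom)))

theorem small_co2 (N : Subgroup co2Stab) (hN : N.Normal) (hp : ¬ 23 ∣ Nat.card N) : N = ⊥ := by
  have := finite_co2Stab
  have := hN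
  obtain ⟨z, hz, hcent⟩ := exists_z23
  have : Fact (Nat.Prime 23) := ⟨by norm_num⟩
  have : Fact (Nat.Prime 3) := ⟨by norm_num⟩
  have : Fact (Nat.Prime 5) := ⟨by norm_num⟩
  have : Fact (Nat.Prime 7) := ⟨by norm_num⟩
  have : Fact (Nat.Prime 11) := ⟨by norm_num⟩
  have e := SelfCentSimple.not_dvd_of_part hz hcent hp
  have hd : Nat.card N ∣ 2 ^ 18 := by
    refine SelfCentSimple.dvd_of_parts (r := 2) (a := 18)
      (L := [(3, 6), (5, 3), (7, 1), (11, 1), (23, 1)]) (by rw [card_co2Stab]; norm_num) ?_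
    simp only [List.mem_cons, List.not_mem_nil, or_false, forall_eq_or_imp, forall_eq]
    exact ⟨⟨by norm_num, e 3 6 (by rw [card_co2Stab]; norm_num) (by decide)⟩,
      ⟨by norm_num, e 5 3 (by rw [card_co2Stab]; norm_num) (by decide)⟩,
      ⟨by norm_num, e 7 1 (by rw [card_co2Stab]; norm_num) (by decide)⟩,
      ⟨by norm_num, e 11 1 (by rw [card_co2Stab]; norm_num) (by decide)⟩,
      ⟨by norm_num, hp⟩⟩
  have hle : N ≤ crossStab.subgroupOf co2Stab := SelfCentSimple.le_of_coprime
    (Nat.Coprime.coprime_dvd_left hd (by rw [index_monoStab]; exact Nat.Coprime.pow_left _ (by norm_num)))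
  refine eq_bot_iff.2 fun g hg => Subgroup.mem_bot.2 (eq_one_of_fix_co2 (hle hg) fun y hy hd' => ?_)
  obtain ⟨a, ha1, ha2⟩ := exists_to_std_co2 hy hd'
  exact fixCls_of_conj hy ha2 (hle (hN.conj_mem g hg ⟨a, ha1⟩))

/-- Stabilisers of a second vector with inner product 1 lie in normal subgroups of small index. -/
theorem le_pair_co2 {N : Subgroup co2Stab} [N.Normal] (h : N.index ∣ 22) {x : leechLattice}
    (hx : sqNorm (x : GolayPt → ℤ) = 32) (hd : dotInt (stdV : GolayPt → ℤ) x = 8) :
    ∀ g : co2Stab, g.1 • x = x → g ∈ N := by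
  have := finite_co2Stab
  have hu : sqNorm ((stdV - x : leechLattice) : GolayPt → ℤ) = 48 := by
    rw [AddSubgroup.coe_sub, sqNorm_sub, hx, hd, show sqNorm (stdV : GolayPt → ℤ) = 32 from std_dots.2.1]
    norm_num
  have huv : dotInt ((stdV - x : leechLattice) : GolayPt → ℤ) stdV = 24 := by
    rw [dotInt_comm, AddSubgroup.coe_sub, dotInt_sub_right, hd, dotInt_self,
      show sqNorm (stdV : GolayPt → ℤ) = 32 from std_dots.2.1]
    norm_num
  obtain ⟨e⟩ := equiv_mclStab hu (v := stdV) std_dots.2.1 huv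
  have f : MulAction.stabilizer co2Stab x ≃*
      ↥(MulAction.stabilizer Co0 (stdV - x) ⊓ MulAction.stabilizer Co0 stdV) :=
    { toFun := fun g => ⟨g.1.1, by
        have h1 : g.1.1 • stdV = stdV := g.1.2
        have h2 : g.1.1 • x = x := g.2
        exact ⟨by show g.1.1 • (stdV - x) = stdV - x; rw [smul_sub', h1, h2], h1⟩⟩
      invFun := fun g => ⟨⟨g.1, g.2.2⟩, by
        have h1 : g.1 • (stdV - x) = stdV - x := g.2.1
        have h2 : g.1 • stdV = stdV := g.2.2
        rw [smul_sub', h2, sub_right_inj] at h1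
        exact h1⟩
      left_inv := fun _ => rfl
      right_inv := fun _ => rfl
      map_mul' := fun _ _ => rfl }
  have := isSimple_mclStab
  have hle := SelfCentSimple.le_of_simple (N := N) (f.trans e).isSimpleGroup (by
    rw [Nat.card_congr (f.trans e).toEquiv, CfsgLib.Fusion.McLSimple.card_mclStab]
    exact lt_of_le_of_lt (Nat.le_of_dvd (by norm_num) h) (by norm_num))
  exact fun g hg => hle hg

theorem perm_mem_co2 {π : M24} (h : ∀ p, π.1 p ∈ pair01 ↔ p ∈ pair01) : permHom π ∈ co2Stab := by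
  rw [mem_co2Stab, ← monoAut_empty π.1 π.2]
  exact monoAut_fix_iff.2 ⟨h, fun p _ => Finset.notMem_empty p⟩

theorem perm_in_N {N : Subgroup co2Stab} [N.Normal] (hN : N.index ∣ 22) (π : M24)
    (h : ∀ p, π.1 p ∈ pair01 ↔ p ∈ pair01) : (⟨permHom π, perm_mem_co2 h⟩ : co2Stab) ∈ N := by
  -- permutations with a fixed point off the pair
  have hfixed : ∀ (τ : M24) (hτ : ∀ p, τ.1 p ∈ pair01 ↔ p ∈ pair01) (q : GolayPt), q ∉ pair01 →
      τ.1 q = q → (⟨permHom τ, perm_mem_co2 hτ⟩ : co2Stab) ∈ N := by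
    intro τ hτ q hq hτq
    obtain ⟨ρ, hρ, hρ0⟩ : ∃ ρ ∈ M24, ρ none = q := by
      obtain ⟨g, hg, e⟩ := M24_exists_map (k := 1) (by omega)
        ⟨fun _ => none, fun _ _ _ => Subsingleton.elim _ _⟩ ⟨fun _ => q, fun _ _ _ => Subsingleton.elim _ _⟩
      exact ⟨g, hg, e 0⟩
    set x := permHom ⟨ρ, hρ⟩ • vOdd
    have hx : ∀ p, (x : GolayPt → ℤ) p = if p = q then -3 else 1 := by
      intro p
      show (vOdd : GolayPt → ℤ) (ρ.symm p) = _
      rw [vOdd_apply]
      simp only [Equiv.symm_apply_eq, hρ0]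
    refine le_pair_co2 hN (x := x) (by rw [sqNorm_smul_co, sqNorm_vOdd]) ?_ _ ?_
    · show dotInt base32 (x : GolayPt → ℤ) = 8
      simp only [pair01, Finset.mem_insert, Finset.mem_singleton, not_or] at hq
      rw [dotInt_comm, dotInt_base32, hx, hx, if_neg (Ne.symm hq.1), if_neg (Ne.symm hq.2)]
      norm_num
    · refine permHom_fix fun p => ?_
      rw [hx, hx]
      have : τ.1 p = q ↔ p = q := by
        conv_lhs => rw [← hτq]
        exact τ.1.injective.eq_iff
      simp only [this]
  -- composition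
  have hmul : ∀ (a b : M24) (ha : ∀ p, a.1 p ∈ pair01 ↔ p ∈ pair01) (hb : ∀ p, b.1 p ∈ pair01 ↔ p ∈ pair01),
      (⟨permHom a, perm_mem_co2 ha⟩ : co2Stab) ∈ N → (⟨permHom b, perm_mem_co2 hb⟩ : co2Stab) ∈ N →
      ∀ hab : ∀ p, (a * b).1 p ∈ pair01 ↔ p ∈ pair01,
      (⟨permHom (a * b), perm_mem_co2 hab⟩ : co2Stab) ∈ N := by
    intro a b ha hb h1 h2 hab
    have := mul_mem h1 h2
    convert this using 1
    exact Subtype.ext (map_mul permHom a b)
  have hfixed2 : ∀ (τ : M24), τ.1 (pt 0) = pt 0 → τ.1 (pt 1) = pt 1 →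
      ∀ hτ : (∀ p, τ.1 p ∈ pair01 ↔ p ∈ pair01), (⟨permHom τ, perm_mem_co2 hτ⟩ : co2Stab) ∈ N := by
    intro τ t0 t1 hτ
    set p := pt 2
    have hp : p ∉ pair01 := by decide +kernel
    by_cases hτp : τ.1 p = p
    · exact hfixed τ hτ p hp hτp
    have hτp' : τ.1 p ∉ pair01 := fun hh => hp ((hτ p).1 hh)
    obtain ⟨q, -, hq⟩ := Finset.exists_mem_notMem_of_card_lt_card
      (s := insert p (insert (τ.1 p) pair01)) (t := Finset.univ) (by
        rw [Finset.card_univ, card_golayPt]
        have h1 := Finset.card_insert_le p (insert (τ.1 p) pair01)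
        have h2 := Finset.card_insert_le (τ.1 p) pair01
        have h3 : pair01.card = 2 := by rfl
        omega)
    simp only [pair01, Finset.mem_insert, Finset.mem_singleton, not_or] at hq hp hτp'
    obtain ⟨ρ, hρ, r0, r1, rq, rp⟩ := M24_map_four pt01_ne (Ne.symm hq.2.2.1) (Ne.symm hp.1)
      (Ne.symm hq.2.2.2) (Ne.symm hp.2) hq.1 pt01_ne (Ne.symm hq.2.2.1) (Ne.symm hτp'.1)
      (Ne.symm hq.2.2.2) (Ne.symm hτp'.2) hq.2.1
    have hρs : ∀ z, (⟨ρ, hρ⟩ : M24).1 z ∈ pair01 ↔ z ∈ pair01 := by
      intro z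
      simp only [pair01, Finset.mem_insert, Finset.mem_singleton]
      constructor
      · rintro (h | h)
        · exact Or.inl (ρ.injective (h.trans r0.symm))
        · exact Or.inr (ρ.injective (h.trans r1.symm))
      · rintro (rfl | rfl)
        exacts [Or.inl r0, Or.inr r1]
    have hσ : ∀ z, ((⟨ρ, hρ⟩ : M24)⁻¹ * τ).1 z ∈ pair01 ↔ z ∈ pair01 := fun z => by
      rw [← hρs, show (⟨ρ, hρ⟩ : M24).1 (((⟨ρ, hρ⟩ : M24)⁻¹ * τ).1 z) = τ.1 z from ρ.apply_symm_apply _]
      exact hτ z
    have a1 := hfixed ⟨ρ, hρ⟩ hρs q (by simp [pair01, hq.2.2.1, hq.2.2.2]) rq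
    have a2 := hfixed _ hσ p (by simp [pair01, hp.1, hp.2]) (by
      show ρ.symm (τ.1 p) = p
      rw [← rp, Equiv.symm_apply_apply])
    have := hmul _ _ hρs hσ a1 a2 (by rw [mul_inv_cancel_left]; exact hτ)
    convert this using 3
    rw [mul_inv_cancel_left]
  by_cases h0 : π.1 (pt 0) = pt 0
  · refine hfixed2 π h0 ?_ h
    have := (h (pt 1)).2 (by simp [pair01])
    simp only [pair01, Finset.mem_insert, Finset.mem_singleton] at this
    rcases this with e | e
    · exact absurd (π.1.injective (e.trans h0.symm)) pt01_ne.symm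
    · exact e
  · have e0 : π.1 (pt 0) = pt 1 := by
      have := (h (pt 0)).2 (by simp [pair01])
      simp only [pair01, Finset.mem_insert, Finset.mem_singleton] at this
      exact this.resolve_left h0
    have e1 : π.1 (pt 1) = pt 0 := by
      have := (h (pt 1)).2 (by simp [pair01])
      simp only [pair01, Finset.mem_insert, Finset.mem_singleton] at this
      exact this.resolve_right fun e => pt01_ne (π.1.injective (e0.trans e.symm))
    have hp2 : pt 2 ∉ pair01 := by decide +kernel
    simp only [pair01, Finset.mem_insert, Finset.mem_singleton, not_or] at hp2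
    obtain ⟨τ₀, hτ₀, u0, u1, u2⟩ := M24_map_three pt01_ne (Ne.symm hp2.1) (Ne.symm hp2.2)
      pt01_ne.symm (Ne.symm hp2.2) (Ne.symm hp2.1)
    have hτs : ∀ z, (⟨τ₀, hτ₀⟩ : M24).1 z ∈ pair01 ↔ z ∈ pair01 := by
      intro z
      simp only [pair01, Finset.mem_insert, Finset.mem_singleton]
      constructor
      · rintro (h | h)
        · exact Or.inr (τ₀.injective (h.trans u1.symm))
        · exact Or.inl (τ₀.injective (h.trans u0.symm))
      · rintro (rfl | rfl)
        exacts [Or.inr u0, Or.inl u1]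
    have hσ : ∀ z, ((⟨τ₀, hτ₀⟩ : M24)⁻¹ * π).1 z ∈ pair01 ↔ z ∈ pair01 := fun z => by
      rw [← hτs, show (⟨τ₀, hτ₀⟩ : M24).1 (((⟨τ₀, hτ₀⟩ : M24)⁻¹ * π).1 z) = π.1 z from τ₀.apply_symm_apply _]
      exact h z
    have a1 := hfixed ⟨τ₀, hτ₀⟩ hτs (pt 2) (by simp [pair01, hp2.1, hp2.2]) u2
    have a2 := hfixed2 _ (show τ₀.symm (π.1 (pt 0)) = pt 0 by rw [e0, ← u0, Equiv.symm_apply_apply])
      (show τ₀.symm (π.1 (pt 1)) = pt 1 by rw [e1, ← u1, Equiv.symm_apply_apply]) hσ
    have := hmul _ _ hτs hσ a1 a2 (by rw [mul_inv_cancel_left]; exact h)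
    convert this using 3
    rw [mul_inv_cancel_left]

/-- Octads avoiding the pair, with disjoint octads through the first point alone. -/
def signList : List (ℕ × ℕ) :=
  [(13938692, 542009), (7221256, 9519665), (10170384, 6570537), (8077824, 8663097), (11654144, 663645),
    (11952160, 4788761), (15515712, 75309), (2019456, 75309), (4038912, 4343317), (14919680, 1332261)]

theorem signList_ok : ∀ bo ∈ signList, inCode bo.2 = true ∧ bitCount bo.2 = 8 ∧ bo.1 &&& bo.2 = 0 ∧
    bo.1.testBit 0 = false ∧ bo.1.testBit 1 = false ∧ bo.2.testBit 0 = true ∧ bo.2.testBit 1 = false ∧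
    inCode bo.1 = true := by decide +kernel

theorem sign_in_N {N : Subgroup co2Stab} [N.Normal] (hN : N.index ∣ 22) {c : Finset GolayPt}
    (hc : CodeSet c) (ha : ∀ p ∈ pair01, p ∉ c) :
    ∃ hm : signAut c hc ∈ co2Stab, (⟨signAut c hc, hm⟩ : co2Stab) ∈ N := by
  have hM : ∀ {d : Finset GolayPt} (hd : CodeSet d), (∀ p ∈ pair01, p ∉ d) → signAut d hd ∈ co2Stab := by
    intro d hd hd'
    rw [mem_co2Stab]
    refine Subtype.ext (funext fun i => ?_)
    rw [coe_signAut_smul, signFlip_apply]
    split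
    · rename_i hi
      rw [base32_apply, if_neg (fun hh => hd' i hh hi), neg_zero]
    · rfl
  refine ⟨hM hc ha, ?_⟩
  let S : Subgroup Co0 := N.map co2Stab.subtype
  suffices signAut c hc ∈ S by
    obtain ⟨g, hg, e⟩ := this
    have : (⟨signAut c hc, hM hc ha⟩ : co2Stab) = g := Subtype.ext e.symm
    rw [this]
    exact hg
  have hb : ∀ b ∈ golayBasis.drop 2, ∃ hb : CodeSet (toSet b), signAut (toSet b) hb ∈ S := by
    intro b hb
    obtain ⟨bo, hbo, rfl⟩ : ∃ bo ∈ signList, bo.1 = b := by
      have : ∀ b ∈ golayBasis.drop 2, ∃ bo ∈ signList, bo.1 = b := by decide +kernel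
      exact this b hb
    obtain ⟨k1, k2, k3, k4, k5, k6, k7, k8⟩ := signList_ok bo hbo
    have hb1 : CodeSet (toSet bo.1) := mem_supports.2 ⟨_, mem_golayList_of_inCode k8, rfl⟩
    have ho : CodeSet (toSet bo.2) := mem_supports.2 ⟨_, mem_golayList_of_inCode k1, rfl⟩
    have ha' : ∀ p ∈ pair01, p ∉ toSet bo.1 := by
      simp only [pair01, Finset.mem_insert, Finset.mem_singleton, forall_eq_or_imp, forall_eq]
      rw [pt_mem_toSet (by norm_num), pt_mem_toSet (by norm_num), k4, k5]
      simp
    refine ⟨hb1, ⟨⟨_, hM hb1 ha'⟩, ?_, rfl⟩⟩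
    refine le_pair_co2 hN (x := twos bo.2 ho) ?_ ?_ _ ?_
    · show sqNorm (fun p => 2 * indi (toSet bo.2) p + 4 * (0 : GolayPt → ℤ) p) = 32
      rw [sqNorm, show (32 : ℤ) = 4 * ((toSet bo.2).card : ℤ) by rw [card_toSet, k2]; norm_num, ← sum_indi,
        Finset.mul_sum]
      refine Finset.sum_congr rfl fun p _ => ?_
      simp only [indi, Pi.zero_apply]; split <;> ring
    · show dotInt base32 (twos bo.2 ho : GolayPt → ℤ) = 8
      rw [dotInt_comm, dotInt_base32]
      show 4 * ((2 * indi (toSet bo.2) (pt 0) + 4 * 0) + (2 * indi (toSet bo.2) (pt 1) + 4 * 0)) = 8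
      simp [indi, pt_mem_toSet, k6, k7]
    · refine Subtype.ext (funext fun i => ?_)
      rw [coe_signAut_smul, signFlip_apply]
      split
      · rename_i hi
        have : i ∉ toSet bo.2 := fun hh => by
          have h3 : i ∈ toSet (bo.1 &&& bo.2) := by rw [toSet_and]; exact Finset.mem_inter.2 ⟨hi, hh⟩
          rw [k3] at h3
          simp [mem_toSet] at h3
        show -(2 * indi (toSet bo.2) i + 4 * 0) = 2 * indi (toSet bo.2) i + 4 * 0
        simp [indi, this]
      · rfl
  have hspan : ∀ n ∈ spanList (golayBasis.drop 2), ∃ hn : CodeSet (toSet n), signAut (toSet n) hn ∈ S := by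
    refine spanList_induction (P := fun n => ∃ hn : CodeSet (toSet n), signAut (toSet n) hn ∈ S) ?_ ?_
    · have h0 : toSet 0 = ∅ := by ext p; simp [mem_toSet]
      refine ⟨h0 ▸ codeSet_empty, ?_⟩
      rw [signAut_congr _ codeSet_empty h0]
      convert one_mem S
      exact co_ext fun v => Subtype.ext (funext fun i => by simp [coe_signAut_smul, signFlip_apply])
    · rintro b hb' n ⟨hn, hnK⟩
      obtain ⟨hb1, hbK⟩ := hb b hb'
      refine ⟨(toSet_xor b n).symm ▸ codeSet_symmDiff hb1 hn, ?_⟩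
      rw [signAut_congr _ (codeSet_symmDiff hb1 hn) (toSet_xor b n), ← signAut_mul hb1 hn]
      exact mul_mem hbK hnK
  obtain ⟨n, hn, rfl⟩ := mem_supports.1 hc
  have h0 : n.testBit 0 = false := by
    have := ha (pt 0) (by simp [pair01]); rwa [pt_mem_toSet (by norm_num), Bool.not_eq_true] at this
  have h1 : n.testBit 1 = false := by
    have := ha (pt 1) (by simp [pair01]); rwa [pt_mem_toSet (by norm_num), Bool.not_eq_true] at this
  have hlow : ∀ b ∈ golayBasis.drop 2, b.testBit 0 = false ∧ b.testBit 1 = false := by decide +kernel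
  have hlow' : ∀ m ∈ spanList (golayBasis.drop 2), m.testBit 0 = false ∧ m.testBit 1 = false :=
    spanList_induction (P := fun m => m.testBit 0 = false ∧ m.testBit 1 = false) (by simp)
      fun b hb m hm => by
        rw [Nat.testBit_xor, Nat.testBit_xor, (hlow b hb).1, (hlow b hb).2, hm.1, hm.2]
        exact ⟨rfl, rfl⟩
  have hn' : n ∈ spanList (golayBasis.drop 2) := by
    have e : golayList = spanList (13062145 :: 4845570 :: golayBasis.drop 2) := rfl
    rw [e] at hn
    simp only [spanList, List.mem_append, List.mem_map] at hn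
    rcases hn with (hn | ⟨m, hm, rfl⟩) | ⟨m, (hm | ⟨m', hm', rfl⟩), rfl⟩
    · exact hn
    · rw [Nat.testBit_xor, (hlow' m hm).2] at h1
      exact absurd h1 (by decide +kernel)
    · rw [Nat.testBit_xor, (hlow' m hm).1] at h0
      exact absurd h0 (by decide +kernel)
    · rw [Nat.testBit_xor, Nat.testBit_xor, (hlow' m' hm').1] at h0
      exact absurd h0 (by decide +kernel)
  exact (hspan n hn').2

theorem large_co2 (N : Subgroup co2Stab) (hN : N.Normal) (hi : N.index ∣ 23 - 1) : N = ⊤ := by
  have := finite_co2Stab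
  have := hN
  rw [← Subgroup.index_eq_one]
  have hle : crossStab.subgroupOf co2Stab ≤ N := by
    intro g hg
    obtain ⟨σ, hσ, c, hc, e⟩ := exists_monoAut_of_mem (Subgroup.mem_subgroupOf.1 hg)
    have hfix : monoAut σ hσ c hc • stdV = stdV := by rw [← e]; exact g.2
    obtain ⟨h1, h2⟩ := monoAut_fix_iff.1 hfix
    obtain ⟨hm, hs⟩ := sign_in_N hi hc h2
    have := mul_mem hs (perm_in_N hi ⟨σ, hσ⟩ h1)
    convert this using 1
    exact Subtype.ext e
  have h1 := Subgroup.index_dvd_of_le hle
  rw [index_monoStab] at h1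
  exact Nat.eq_one_of_dvd_coprimes (show Nat.Coprime (23 - 1) 46575 by norm_num) hi h1

theorem isCo2_stab : IsCo2 co2Stab := by
  have := finite_co2Stab
  have : Fact (Nat.Prime 23) := ⟨by norm_num⟩
  obtain ⟨z, hz, hcent⟩ := exists_z23
  exact ⟨SelfCentSimple.isSimple hz hcent (by rw [card_co2Stab]; norm_num) small_co2 large_co2, card_co2Stab⟩

/-- The stabiliser of any minimal vector. -/
theorem isCo2_of_norm {v : leechLattice} (hv : sqNorm (v : GolayPt → ℤ) = 32) :
    IsCo2 (MulAction.stabilizer Co0 v) := by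
  obtain ⟨g, hg⟩ := exists_smul_eq32 (v := stdV) std_dots.2.1 hv
  let e : co2Stab ≃* MulAction.stabilizer Co0 v :=
    MulAction.stabilizerEquivStabilizer (g := g) (a := stdV) (b := v) hg.symm
  obtain ⟨hs, hc⟩ := isCo2_stab
  exact ⟨e.symm.isSimpleGroup, (Nat.card_congr e.symm.toEquiv).trans hc⟩

end CfsgLib.Leech.ConwaySimple
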