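import Cfsg.Agent.Lib.Leech.ConwaySimple.Co1
import Cfsg.Agent.Lib.Leech.Quads

/-!
# Simplicity of the McLaughlin group
-/

set_option autoImplicit false

open scoped Pointwise symmDiff

namespace CfsgLib.Leech.ConwaySimple

open Cfsg CfsgLib.Golay CfsgLib.Leech CfsgLib.Fusion.McLSimple

/-- The vector of norm 48 of the standard pair. -/
noncomputable abbrev mU : leechLattice := CfsgLib.Fusion.McLSimple.mclU

theorem finite_mclStab : Finite mclStab := Nat.finite_of_card_ne_zero (by rw [card_mclStab]; norm_num)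

theorem mem_mclStab {g : Co0} : g ∈ mclStab ↔ g • mU = mU ∧ g • Spor.leechU = Spor.leechU := Iff.rfl

theorem coe_leechU : (Spor.leechU : GolayPt → ℤ) = Spor.vecU := rfl

theorem mclU_apply : ∀ p, (mU : GolayPt → ℤ) p = if p = none then 5 else 1 := by decide +kernel

theorem permHom_fix {τ : M24} {v : leechLattice}
    (h : ∀ p, (v : GolayPt → ℤ) (τ.1 p) = (v : GolayPt → ℤ) p) : permHom τ • v = v :=
  Subtype.ext (funext fun i => by
    rw [coe_permHom_smul]
    conv_rhs => rw [← τ.1.apply_symm_apply i, h])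

theorem permHom_mem_mclStab {τ : M24} (h0 : τ.1 none = none) (h1 : τ.1 (some 0) = some 0) :
    permHom τ ∈ mclStab := by
  refine mem_mclStab.2 ⟨permHom_fix fun p => ?_, permHom_fix fun p => ?_⟩
  · rw [mclU_apply, mclU_apply]
    have : τ.1 p = none ↔ p = none := by
      conv_lhs => rw [← h0]
      exact τ.1.injective.eq_iff
    simp only [this]
  · show Spor.vecU (τ.1 p) = Spor.vecU p
    have a : τ.1 p = none ↔ p = none := by conv_lhs => rw [← h0]; rw [τ.1.injective.eq_iff]
    have b : τ.1 p = some 0 ↔ p = some 0 := by conv_lhs => rw [← h1]; rw [τ.1.injective.eq_iff]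
    simp only [Spor.vecU, a, b]

theorem s11_mem : s11 ∈ mclStab :=
  permHom_mem_mclStab sig11_none (by rw [sig11_some, mul_zero])

/-- The element of order 11 of the stabiliser. -/
noncomputable def x11 : mclStab := ⟨s11, s11_mem⟩

theorem orderOf_x11 : orderOf x11 = 11 := by rw [← Subgroup.orderOf_coe]; exact orderOf_s11

theorem cent_x11 (g : mclStab) (h : g * x11 = x11 * g) : g ∈ Subgroup.zpowers x11 := by
  obtain ⟨h1, h2⟩ := mem_mclStab.1 g.2
  obtain ⟨k, hk⟩ := cent11 (congrArg Subtype.val h) h2 h1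
  exact ⟨k, Subtype.ext ((SubgroupClass.coe_zpow x11 k).trans hk)⟩

/-- The 275 vectors. -/
def mclW : Set leechLattice :=
  {y | sqNorm (y : GolayPt → ℤ) = 32 ∧ dotInt (mU : GolayPt → ℤ) y = 24 ∧
    dotInt (Spor.leechU : GolayPt → ℤ) y = 16}

theorem ncard_mclW : mclW.ncard = 275 := ncard_mclPair mcl_dots.1 mcl_dots.2.1 mcl_dots.2.2

theorem orbit_mclW {y : leechLattice} (hy : y ∈ mclW) : MulAction.orbit mclStab y = mclW := by
  ext z
  constructor
  · rintro ⟨⟨g, hg⟩, rfl⟩
    obtain ⟨h1, h2⟩ := mem_mclStab.1 hg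
    refine ⟨(sqNorm_smul_co g y).trans hy.1, ?_, ?_⟩
    · have := dot_smul_co g mU y
      rw [h1] at this
      exact this.trans hy.2.1
    · have := dot_smul_co g Spor.leechU y
      rw [h2] at this
      exact this.trans hy.2.2
  · intro hz
    obtain ⟨g, h1, h2, h3⟩ := exists_map_triple
      (exists_triple_mcl mcl_dots.1 mcl_dots.2.1 hy.1 mcl_dots.2.2 hy.2.1 hy.2.2)
      (exists_triple_mcl mcl_dots.1 mcl_dots.2.1 hz.1 mcl_dots.2.2 hz.2.1 hz.2.2)
    exact ⟨⟨g, mem_mclStab.2 ⟨h3, h1⟩⟩, h2⟩

theorem index_stab_mclW {y : leechLattice} (hy : y ∈ mclW) :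
    (MulAction.stabilizer mclStab y).index = 275 := by
  rw [MulAction.index_stabilizer, orbit_mclW hy, ncard_mclW]

theorem card_pairSet (i : ZMod 23) : 2 ∣ ({none, some i} : Finset GolayPt).card := by
  rw [Finset.card_pair (Option.some_ne_none i).symm]

/-- The vectors with a four at the extra point and at one more. -/
def edge (i : ZMod 23) : leechLattice := fours {none, some i} (card_pairSet i)

theorem edge_mem {i : ZMod 23} (hi : i ≠ 0) : edge i ∈ mclW := by
  have : ∀ i : ZMod 23, i ≠ 0 → sqNorm (edge i : GolayPt → ℤ) = 32 ∧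
      dotInt (mU : GolayPt → ℤ) (edge i) = 24 ∧ dotInt (Spor.leechU : GolayPt → ℤ) (edge i) = 16 := by
    decide +kernel
  exact this i hi

theorem eq_one_of_fix_mclW {g : mclStab} (h : ∀ y ∈ mclW, g • y = y) : g = 1 := by
  obtain ⟨hU1, hU2⟩ := mem_mclStab.1 g.2
  have hb9 : (9 : ℤ) • baseVec + (4 : ℤ) • mU =
      Spor.leechU + ∑ i ∈ Finset.univ.erase (0 : ZMod 23), edge i := by decide +kernel
  have hax0 : axisVec (some 0) 8 dvd_rfl + baseVec = (2 : ℤ) • Spor.leechU := by decide +kernel
  have hax : ∀ i : ZMod 23, i ≠ 0 → axisVec (some i) 8 dvd_rfl + baseVec = (2 : ℤ) • edge i := by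
    decide +kernel
  have hbase : g.1 • baseVec = baseVec := by
    have e := congrArg (fun v : leechLattice => g.1 • v) hb9
    simp only [smul_add', smul_zsmul', hU1, hU2] at e
    have hs : g.1 • ∑ i ∈ Finset.univ.erase (0 : ZMod 23), edge i =
        ∑ i ∈ Finset.univ.erase (0 : ZMod 23), edge i := by
      rw [← actHom_apply, map_sum]
      exact Finset.sum_congr rfl fun i hi => h _ (edge_mem (Finset.mem_erase.1 hi).1)
    rw [hs, ← hb9, add_left_inj] at e
    refine Subtype.ext (funext fun p => ?_)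
    have := congrArg (fun v : leechLattice => (v : GolayPt → ℤ) p) e
    simp only [AddSubgroup.coe_zsmul, Pi.smul_apply, smul_eq_mul] at this
    omega
  have haxis : ∀ p, g.1 • axisVec p 8 dvd_rfl = axisVec p 8 dvd_rfl := by
    intro p
    rcases p with _ | i
    · exact hbase
    · rcases eq_or_ne i 0 with rfl | hi
      · have e := congrArg (fun v : leechLattice => g.1 • v) hax0
        simp only [smul_add', smul_zsmul', hbase, hU2] at e
        rw [← hax0, add_left_inj] at e
        exact e
      · have e := congrArg (fun v : leechLattice => g.1 • v) (hax i hi)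
        have he : g.1 • edge i = edge i := h _ (edge_mem hi)
        simp only [smul_add', smul_zsmul', hbase, he] at e
        rw [← hax i hi, add_left_inj] at e
        exact e
  have hmem : g.1 ∈ crossStab := mem_crossStab_of_baseVec (Or.inl rfl) (by rw [hbase]; rfl)
  obtain ⟨π, hπ, c, hc, e⟩ := exists_monoAut_of_mem hmem
  have hp : ∀ p, π p = p ∧ π p ∉ c := by
    intro p
    have h1 := congrArg (fun v : leechLattice => (v : GolayPt → ℤ)) (haxis p)
    rw [e] at h1
    simp only [coe_monoAut_smul, coe_axisVec, signedPerm_single] at h1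
    obtain ⟨h2, h3⟩ := single_eight (by split <;> norm_num) h1
    exact ⟨h2, fun hc => by rw [if_pos hc] at h3; norm_num at h3⟩
  obtain rfl : π = 1 := Equiv.ext fun p => (hp p).1
  obtain rfl : c = ∅ := Finset.eq_empty_iff_forall_notMem.2 fun p hp' => (hp p).2 hp'
  exact Subtype.ext (e.trans ((monoAut_empty 1 hπ).trans (map_one permHom)))

theorem small_mcl (N : Subgroup mclStab) (hN : N.Normal) (hp : ¬ 11 ∣ Nat.card N) : N = ⊥ := by
  have := finite_mclStab
  have := hN
  have : Fact (Nat.Prime 11) := ⟨by norm_num⟩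
  have : Fact (Nat.Prime 2) := ⟨by norm_num⟩
  have : Fact (Nat.Prime 5) := ⟨by norm_num⟩
  have : Fact (Nat.Prime 7) := ⟨by norm_num⟩
  have e := SelfCentSimple.not_dvd_of_part orderOf_x11 cent_x11 hp
  have hd : Nat.card N ∣ 3 ^ 6 := by
    refine SelfCentSimple.dvd_of_parts (r := 3) (a := 6) (L := [(2, 7), (5, 3), (7, 1), (11, 1)])
      (by rw [card_mclStab]; norm_num) ?_
    simp only [List.mem_cons, List.not_mem_nil, or_false, forall_eq_or_imp, forall_eq]
    exact ⟨⟨by norm_num, e 2 7 (by rw [card_mclStab]; norm_num) (by decide)⟩,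
      ⟨by norm_num, e 5 3 (by rw [card_mclStab]; norm_num) (by decide)⟩,
      ⟨by norm_num, e 7 1 (by rw [card_mclStab]; norm_num) (by decide)⟩,
      ⟨by norm_num, hp⟩⟩
  refine eq_bot_iff.2 fun g hg => Subgroup.mem_bot.2 (eq_one_of_fix_mclW fun y hy => ?_)
  exact SelfCentSimple.le_of_coprime (H := MulAction.stabilizer mclStab y)
    (Nat.Coprime.coprime_dvd_left hd (by rw [index_stab_mclW hy]; norm_num)) hg

/-- The permutations fixing the two special points. -/
noncomputable def pairPerms : Subgroup M24 :=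
  MulAction.stabilizer M24 (none : GolayPt) ⊓ MulAction.stabilizer M24 (some 0 : GolayPt)

/-- Their action on the lattice. -/
noncomputable def pairHom : pairPerms →* mclStab :=
  (permHom.comp pairPerms.subtype).codRestrict _ fun τ => permHom_mem_mclStab τ.2.1 τ.2.2

theorem pairHom_injective : Function.Injective pairHom := fun _ _ h =>
  Subtype.ext (permHom_injective (congrArg Subtype.val h))

theorem pair_le {N : Subgroup mclStab} [N.Normal] (h : N.index ∣ 10) (τ : pairPerms) : pairHom τ ∈ N := by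
  have := finite_mclStab
  obtain ⟨e⟩ := stabilizer_pair_equiv (show (none : GolayPt) ≠ some 0 by simp)
  have := stabTwo_simple
  have hs : IsSimpleGroup pairPerms := MulEquiv.isSimpleGroup e
  refine SelfCentSimple.le_of_simple (S := pairHom.range)
    (MonoidHom.ofInjective pairHom_injective).symm.isSimpleGroup ?_ ⟨τ, rfl⟩
  rw [← Nat.card_congr (MonoidHom.ofInjective pairHom_injective).toEquiv,
    show Nat.card pairPerms = Nat.card stabTwo from Nat.card_congr e.toEquiv, card_stabTwo]
  exact lt_of_le_of_lt (Nat.le_of_dvd (by norm_num) h) (by norm_num)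

theorem exists_five : ∃ τ : pairPerms, τ.1.1 (some 1) = some 1 ∧ orderOf τ = 5 := by
  let x : Fin 3 ↪ GolayPt := ⟨![none, some 0, some 1], by decide⟩
  have hc := card_stabilizer_tuple (k := 3) (by omega) x
  have hd : 5 ∣ Nat.card (MulAction.stabilizer M24 x) := by
    have : Nat.card (MulAction.stabilizer M24 x) = 20160 := by
      rw [show Nat.descFactorial 24 3 = 12144 by decide] at hc
      omega
    rw [this]; norm_num
  have : Fact (Nat.Prime 5) := ⟨by norm_num⟩
  obtain ⟨τ, hτ⟩ := exists_prime_orderOf_dvd_card' 5 hd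
  have hfix : ∀ i, τ.1.1 (x i) = x i := fun i => DFunLike.congr_fun τ.2 i
  refine ⟨⟨τ.1, hfix 0, hfix 1⟩, hfix 2, ?_⟩
  rw [← Subgroup.orderOf_coe] at hτ ⊢
  exact hτ

theorem stab_le {N : Subgroup mclStab} [N.Normal] (h : N.index = 5) {y : leechLattice} (hy : y ∈ mclW) :
    MulAction.stabilizer mclStab y ≤ N := by
  have := finite_mclStab
  have hbase : MulAction.stabilizer mclStab (edge 1) ≤ N := by
    set S := MulAction.stabilizer mclStab (edge 1) with hS
    obtain ⟨τ, hτ1, hτ5⟩ := exists_five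
    have hmem : pairHom τ ∈ N ⊓ S := by
      refine ⟨pair_le (by rw [h]; norm_num) τ, ?_⟩
      show permHom τ.1 • edge 1 = edge 1
      refine permHom_fix fun p => ?_
      have a : τ.1.1 p = none ↔ p = none := by
        conv_lhs => rw [← show τ.1.1 none = none from τ.2.1]
        rw [τ.1.1.injective.eq_iff]
      have b : τ.1.1 p = some 1 ↔ p = some 1 := by
        conv_lhs => rw [← hτ1]
        rw [τ.1.1.injective.eq_iff]
      show 4 * indi {none, some 1} (τ.1.1 p) = 4 * indi {none, some 1} p
      simp only [indi, Finset.mem_insert, Finset.mem_singleton, a, b]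
    have h5 : 5 ∣ Nat.card (N ⊓ S : Subgroup mclStab) := by
      have := orderOf_dvd_natCard (⟨pairHom τ, hmem⟩ : (N ⊓ S : Subgroup mclStab))
      rw [← Subgroup.orderOf_coe, orderOf_injective pairHom pairHom_injective, hτ5] at this
      exact this
    have hrel : N.relIndex S ∣ 5 := h ▸ Subgroup.relIndex_dvd_index_of_normal N S
    rcases (Nat.dvd_prime (by norm_num : Nat.Prime 5)).1 hrel with e | e
    · exact Subgroup.relIndex_eq_one.1 e
    · exfalso
      have hS' : Nat.card S = 3265920 := by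
        have := S.card_mul_index
        rw [hS, index_stab_mclW (edge_mem (by decide)), ← hS, card_mclStab] at this
        omega
      have hc := (N.subgroupOf S).card_mul_index
      change _ * N.relIndex S = _ at hc
      rw [e, hS', show Nat.card (N.subgroupOf S) = Nat.card (N ⊓ S : Subgroup mclStab) by
        rw [← Subgroup.inf_subgroupOf_right]
        exact Nat.card_congr (Subgroup.subgroupOfEquivOfLe inf_le_right).toEquiv] at hc
      omega
  obtain ⟨g, hg⟩ : y ∈ MulAction.orbit mclStab (edge 1) := by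
    rw [orbit_mclW (edge_mem (by decide))]; exact hy
  intro k hk
  have hk' : g⁻¹ * k * g ∈ MulAction.stabilizer mclStab (edge 1) := by
    rw [MulAction.mem_stabilizer_iff, mul_smul, mul_smul]
    show g⁻¹ • k • (g • edge 1) = edge 1
    have hg' : g • edge 1 = y := hg
    rw [hg', MulAction.mem_stabilizer_iff.1 hk, ← hg', inv_smul_smul]
  have := (inferInstance : N.Normal).conj_mem _ (hbase hk') g
  rwa [show g * (g⁻¹ * k * g) * g⁻¹ = k by group] at this

theorem large_mcl (N : Subgroup mclStab) (hN : N.Normal) (hi : N.index ∣ 11 - 1) : N = ⊤ := by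
  have := finite_mclStab
  have := hN
  rw [← Subgroup.index_eq_one]
  have h2025 : N.index ∣ 2025 := by
    have hle : pairHom.range ≤ N := by rintro _ ⟨τ, rfl⟩; exact pair_le hi τ
    have h1 := Subgroup.index_dvd_of_le hle
    have h2 := pairHom.range.card_mul_index
    obtain ⟨e⟩ := stabilizer_pair_equiv (show (none : GolayPt) ≠ some 0 by simp)
    rw [← Nat.card_congr (MonoidHom.ofInjective pairHom_injective).toEquiv,
      show Nat.card pairPerms = Nat.card stabTwo from Nat.card_congr e.toEquiv, card_stabTwo,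
      card_mclStab] at h2
    rwa [show pairHom.range.index = 2025 by omega] at h1
  have h5 : N.index ∣ 5 := by
    have := Nat.dvd_gcd hi h2025
    rwa [show Nat.gcd (11 - 1) 2025 = 5 by decide] at this
  rcases (Nat.dvd_prime (by norm_num : Nat.Prime 5)).1 h5 with h | h
  · exact h
  exfalso
  set x := edge 1
  have hx : x ∈ mclW := edge_mem (by decide)
  set A := {z : leechLattice | sqNorm (z : GolayPt → ℤ) = 32 ∧ dotInt (mU : GolayPt → ℤ) z = 24 ∧
      dotInt (Spor.leechU : GolayPt → ℤ) z = 16 ∧ dotInt (x : GolayPt → ℤ) z = 8}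
  have hA : A.ncard = 112 :=
    ncard_mclTriple mcl_dots.1 mcl_dots.2.1 hx.1 mcl_dots.2.2 hx.2.1 hx.2.2
  obtain ⟨y, hy⟩ := Set.nonempty_of_ncard_ne_zero (s := A) (by omega)
  have hyW : y ∈ mclW := ⟨hy.1, hy.2.1, hy.2.2.1⟩
  set Y := MulAction.orbit N y
  have hY : Y.ncard = 55 := by
    rw [← MulAction.index_stabilizer]
    have e : MulAction.stabilizer N y = (MulAction.stabilizer mclStab y).subgroupOf N := by
      ext k; rfl
    rw [e]
    show (MulAction.stabilizer mclStab y).relIndex N = 55
    have := Subgroup.relIndex_mul_index (stab_le h hyW)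
    rw [h, index_stab_mclW hyW] at this
    omega
  have hsub : A ⊆ Y := by
    intro z hz
    obtain ⟨g, h1, h2, h3, h4⟩ := exists_map_quad
      (exists_quad_mcl8 mcl_dots.1 mcl_dots.2.1 hx.1 hy.1 mcl_dots.2.2 hx.2.1 hy.2.1 hx.2.2 hy.2.2.1
        hy.2.2.2)
      (exists_quad_mcl8 mcl_dots.1 mcl_dots.2.1 hx.1 hz.1 mcl_dots.2.2 hx.2.1 hz.2.1 hx.2.2 hz.2.2.1
        hz.2.2.2)
    exact ⟨⟨⟨g, mem_mclStab.2 ⟨h1, h2⟩⟩, stab_le h hx (show g • x = x from h3)⟩, h4⟩
  have := Set.ncard_le_ncard hsub (Set.finite_of_ncard_ne_zero (by omega))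
  omega

theorem isSimple_mclStab : IsSimpleGroup mclStab := by
  have := finite_mclStab
  have : Fact (Nat.Prime 11) := ⟨by norm_num⟩
  exact SelfCentSimple.isSimple orderOf_x11 cent_x11 (by rw [card_mclStab]; norm_num) small_mcl large_mcl

/-- Conjugate stabilisers. -/
noncomputable def stabConj {a b a' b' : leechLattice} (g : Co0) (ha : g • a = a') (hb : g • b = b') :
    ↥(MulAction.stabilizer Co0 a ⊓ MulAction.stabilizer Co0 b) ≃*
      ↥(MulAction.stabilizer Co0 a' ⊓ MulAction.stabilizer Co0 b') :=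
  ((MulAut.conj g).subgroupMap _).trans (MulEquiv.subgroupCongr (by
    subst ha hb
    rw [Subgroup.map_inf _ _ _ (MulAut.conj g).injective, MulAction.stabilizer_smul_eq_stabilizer_map_conj,
      MulAction.stabilizer_smul_eq_stabilizer_map_conj]
    rfl))

/-- The joint stabiliser of a norm 6 and a norm 4 vector with inner product 3 is simple. -/
theorem equiv_mclStab {u v : leechLattice} (hu : sqNorm (u : GolayPt → ℤ) = 48)
    (hv : sqNorm (v : GolayPt → ℤ) = 32) (huv : dotInt (u : GolayPt → ℤ) v = 24) :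
    Nonempty (↥(MulAction.stabilizer Co0 u ⊓ MulAction.stabilizer Co0 v) ≃* mclStab) := by
  have key : ∀ {a b : leechLattice}, sqNorm (a : GolayPt → ℤ) = 48 → sqNorm (b : GolayPt → ℤ) = 32 →
      dotInt (a : GolayPt → ℤ) b = 24 → ∃ g : Co0, ((g • b : leechLattice) : GolayPt → ℤ) = pair8v ∧
        ((g • (a - b) : leechLattice) : GolayPt → ℤ) = pair8w := fun {a b} ha hb hd =>
    exists_pair8 hb (by rw [AddSubgroup.coe_sub, sqNorm_sub, ha, hd, hb]; norm_num)
      (by rw [AddSubgroup.coe_sub, dotInt_sub_right, dotInt_comm, hd, dotInt_self, hb]; norm_num)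
  obtain ⟨g, h1, h2⟩ := exists_map_pair (key hu hv huv) (key mcl_dots.1 mcl_dots.2.1 mcl_dots.2.2)
  refine ⟨stabConj g ?_ h1⟩
  calc g • u = g • ((u - v) + v) := by rw [sub_add_cancel]
    _ = (mU - Spor.leechU) + Spor.leechU := by rw [smul_add', h2, h1]
    _ = mU := sub_add_cancel _ _

theorem isMcL_pair {u v : leechLattice} (hu : sqNorm (u : GolayPt → ℤ) = 48)
    (hv : sqNorm (v : GolayPt → ℤ) = 32) (huv : dotInt (u : GolayPt → ℤ) v = 24) :
    IsMcL ↥(MulAction.stabilizer Co0 u ⊓ MulAction.stabilizer Co0 v) := by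
  obtain ⟨e⟩ := equiv_mclStab hu hv huv
  have := isSimple_mclStab
  exact ⟨e.isSimpleGroup, (Nat.card_congr e.toEquiv).trans card_mclStab⟩

/-- The stabiliser of two minimal vectors with inner product `-1`. -/
theorem isMcL_minimal {v w : leechLattice} (hv : sqNorm (v : GolayPt → ℤ) = 32)
    (hw : sqNorm (w : GolayPt → ℤ) = 32) (hvw : dotInt (v : GolayPt → ℤ) w = -8) :
    IsMcL ↥(MulAction.stabilizer Co0 v ⊓ MulAction.stabilizer Co0 w) := by
  have e : MulAction.stabilizer Co0 v ⊓ MulAction.stabilizer Co0 w =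
      MulAction.stabilizer Co0 (v + w) ⊓ MulAction.stabilizer Co0 v := by
    ext g
    simp only [Subgroup.mem_inf, MulAction.mem_stabilizer_iff, smul_add']
    constructor
    · rintro ⟨a, b⟩; exact ⟨by rw [a, b], a⟩
    · rintro ⟨a, b⟩; rw [b, add_right_inj] at a; exact ⟨b, a⟩
  rw [e]
  refine isMcL_pair ?_ hv ?_
  · rw [AddSubgroup.coe_add, sqNorm_add, hv, hw, hvw]; norm_num
  · rw [AddSubgroup.coe_add, dotInt_comm, dotInt_add_right, dotInt_self, hv, hvw]; norm_num

end CfsgLib.Leech.ConwaySimple
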