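import Cfsg.Agent.Lib.Leech.ConwaySimple.Perm
import Cfsg.Agent.Lib.Fusion.McLSimple.Main

/-!
# The elements of orders 23 and 11 and their centralisers in the group of the lattice
-/

set_option autoImplicit false

open scoped Pointwise

namespace CfsgLib.Leech.ConwaySimple

open Cfsg CfsgLib.Golay CfsgLib.Leech

/-- The permutation automorphisms. -/
def permHom : M24 →* Co0 where
  toFun π := permAut π.1 π.2
  map_one' := co_ext fun _ => Subtype.ext (funext fun _ => rfl)
  map_mul' _ _ := co_ext fun _ => Subtype.ext (funext fun _ => rfl)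

theorem coe_permHom_smul (π : M24) (v : leechLattice) :
    ((permHom π • v : leechLattice) : GolayPt → ℤ) = fun i => (v : GolayPt → ℤ) (π.1.symm i) := rfl

theorem permHom_apply_pt (π : M24) (v : leechLattice) (p : GolayPt) :
    ((permHom π • v : leechLattice) : GolayPt → ℤ) (π.1 p) = (v : GolayPt → ℤ) p := by
  rw [coe_permHom_smul]
  simp

theorem permHom_injective : Function.Injective permHom := by
  intro a b e
  refine Subtype.ext (Equiv.ext fun p => ?_)
  by_contra hne
  have h := congrArg (fun g : Co0 =>
    ((g • axisVec p 8 dvd_rfl : leechLattice) : GolayPt → ℤ) (a.1 p)) e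
  simp only [coe_permHom_smul, coe_axisVec, Equiv.symm_apply_apply, Pi.single_eq_same] at h
  rw [Pi.single_eq_of_ne (fun e => hne (b.1.symm_apply_eq.1 e))] at h
  omega

theorem monoAut_empty (π : Equiv.Perm GolayPt) (hπ : π ∈ M24) :
    monoAut π hπ ∅ codeSet_empty = permHom ⟨π, hπ⟩ := by
  refine co_ext fun v => Subtype.ext (funext fun i => ?_)
  rw [coe_monoAut_smul, coe_permHom_smul]
  simp [signedPerm]

theorem monoAut_univ (π : Equiv.Perm GolayPt) (hπ : π ∈ M24) :
    monoAut π hπ Finset.univ codeSet_univ = negAut * permHom ⟨π, hπ⟩ := by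
  refine co_ext fun v => Subtype.ext (funext fun i => ?_)
  rw [coe_monoAut_smul, mul_smul, coe_negAut_smul, Pi.neg_apply, coe_permHom_smul]
  simp [signedPerm]

theorem neg_smul_co (v : leechLattice) : negAut • v = -v := Subtype.ext (coe_negAut_smul v)

theorem negAut_mem_center : negAut ∈ Subgroup.center Co0 := by
  rw [Subgroup.mem_center_iff]
  exact fun g => co_ext fun v => by rw [mul_smul, mul_smul, neg_smul_co, neg_smul_co, smul_neg']

theorem negAut_mul_self : negAut * negAut = 1 :=
  co_ext fun v => by rw [mul_smul, neg_smul_co, neg_smul_co, neg_neg, one_smul]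

theorem negAut_ne_one : negAut ≠ 1 := fun h => by
  have := congrFun (congrArg (fun g : Co0 => ((g • baseVec : leechLattice) : GolayPt → ℤ)) h) none
  simp [coe_negAut_smul, baseVec, coe_axisVec] at this

/-- The automorphism of order 23. -/
noncomputable def s23 : Co0 := permHom sig23

/-- The automorphism of order 11. -/
noncomputable def s11 : Co0 := permHom sig11

theorem orderOf_s23 : orderOf s23 = 23 := by
  rw [s23, orderOf_injective permHom permHom_injective, orderOf_sig23]

theorem orderOf_s11 : orderOf s11 = 11 := by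
  rw [s11, orderOf_injective permHom permHom_injective, orderOf_sig11]

/-- An automorphism sending the base vector into the standard cross fixes the cross. -/
theorem mem_crossStab_of_baseVec {g : Co0} {p : GolayPt} {t : ℤ} (ht : t = 8 ∨ t = -8)
    (h : ((g • baseVec : leechLattice) : GolayPt → ℤ) = Pi.single p t) : g ∈ crossStab := by
  have hm : g • baseVec ∈ leechEven.cls8 baseVec := stdSet_eq_cls8 ▸ mem_stdSet.2 ⟨p, t, ht, h⟩
  rw [crossStab, MulAction.mem_stabilizer_iff, stdSet_eq_cls8, smul_cls8, cls8_eq hm]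

theorem monoAut_baseVec (π : Equiv.Perm GolayPt) (hπ : π ∈ M24) (c : Finset GolayPt) (hc : CodeSet c) :
    ((monoAut π hπ c hc • baseVec : leechLattice) : GolayPt → ℤ) =
      Pi.single (π none) (if π none ∈ c then -8 else 8) := by
  rw [coe_monoAut_smul, baseVec, coe_axisVec, signedPerm_single]

theorem single_eight {p q : GolayPt} {s t : ℤ} (hs : s ≠ 0)
    (h : (Pi.single p s : GolayPt → ℤ) = Pi.single q t) : p = q ∧ s = t := by
  have e := congrFun h p
  rw [Pi.single_eq_same] at e
  rcases eq_or_ne p q with rfl | hne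
  · exact ⟨rfl, by simpa using e⟩
  · rw [Pi.single_eq_of_ne hne] at e; exact absurd e hs

theorem commute_monoAut {π : Equiv.Perm GolayPt} {hπ : π ∈ M24} {c : Finset GolayPt} {hc : CodeSet c}
    {τ : M24} (h : monoAut π hπ c hc * permHom τ = permHom τ * monoAut π hπ c hc) :
    (∀ p, π (τ.1 p) = τ.1 (π p)) ∧ ∀ p, τ.1 p ∈ c ↔ p ∈ c := by
  have key : ∀ p, π (τ.1 p) = τ.1 (π p) ∧ (τ.1 (π p) ∈ c ↔ π p ∈ c) := by
    intro p
    have e := congrArg (fun g : Co0 => ((g • axisVec p 8 dvd_rfl : leechLattice) : GolayPt → ℤ)) h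
    simp only [mul_smul, coe_monoAut_smul, coe_permHom_smul, coe_axisVec, signedPerm_single] at e
    have e1 : (fun i => (Pi.single p 8 : GolayPt → ℤ) (τ.1.symm i)) = Pi.single (τ.1 p) 8 := by
      funext i
      simp only [Pi.single_apply, Equiv.symm_apply_eq]
    have e2 : ∀ t : ℤ, (fun i => (Pi.single (π p) t : GolayPt → ℤ) (τ.1.symm i)) =
        Pi.single (τ.1 (π p)) t := by
      intro t; funext i
      simp only [Pi.single_apply, Equiv.symm_apply_eq]
    rw [e1, signedPerm_single, e2] at e
    obtain ⟨h1, h2⟩ := single_eight (by split <;> norm_num) e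
    refine ⟨h1, ?_⟩
    rw [h1] at h2
    by_cases a : τ.1 (π p) ∈ c <;> by_cases b : π p ∈ c <;> simp [a, b] at h2 ⊢
  exact ⟨fun p => (key p).1, fun p => by simpa using (key (π.symm p)).2⟩

/-- The sum of a function on the 24 points. -/
theorem sum_points (f : GolayPt → ℤ) : ∑ p, f p = f none + ∑ r : ZMod 23, f (some r) :=
  Fintype.sum_option f

theorem fixed_perm {g : Co0} {τ : M24} (hc : g * permHom τ = permHom τ * g) (hn : τ.1 none = none)
    (p : GolayPt) : ((g • baseVec : leechLattice) : GolayPt → ℤ) (τ.1 p) =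
      ((g • baseVec : leechLattice) : GolayPt → ℤ) p := by
  have hb : permHom τ • baseVec = baseVec := Subtype.ext (funext fun i => by
    rw [coe_permHom_smul, baseVec, coe_axisVec]
    simp only [Pi.single_apply, Equiv.symm_apply_eq, hn])
  have h : permHom τ • g • baseVec = g • baseVec := by rw [← mul_smul, ← hc, mul_smul, hb]
  conv_lhs => rw [← h]
  exact permHom_apply_pt τ _ p

theorem dot_baseVec (x : GolayPt → ℤ) : dotInt x (baseVec : GolayPt → ℤ) = 8 * x none := by
  rw [baseVec, coe_axisVec, dotInt_single]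
  ring

/-- The centraliser of the element of order 23. -/
theorem cent23 {g : Co0} (h : g * s23 = s23 * g) :
    ∃ k : ℕ, g = s23 ^ k ∨ g = negAut * s23 ^ k := by
  set u := ((g • baseVec : leechLattice) : GolayPt → ℤ) with hu
  have hstep := fixed_perm h sig23_none
  have hall : ∀ r : ZMod 23, u (some r) = u (some 0) := by
    have hnat : ∀ n : ℕ, u (some (n : ZMod 23)) = u (some 0) := by
      intro n
      induction n with
      | zero => simp
      | succ n ih => rw [Nat.cast_succ, ← sig23_some, hu, hstep, ← hu, ih]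
    intro r
    rw [← ZMod.natCast_rightInverse r]; exact hnat _
  have hn : u none ^ 2 + 23 * u (some 0) ^ 2 = 64 := by
    have := sqNorm_smul_co g baseVec
    rw [← hu, sqNorm, sum_points, Finset.sum_congr rfl fun r _ => by rw [hall r], Finset.sum_const,
      Finset.card_univ, ZMod.card, baseVec, coe_axisVec, sqNorm_single] at this
    norm_num at this
    linarith
  have hb : u (some 0) = 0 := by
    have h1 : u (some 0) ^ 2 ≤ 2 := by nlinarith
    have h2 : -1 ≤ u (some 0) := by nlinarith
    have h3 : u (some 0) ≤ 1 := by nlinarith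
    have h4 : -6 ≤ u none → u none ≤ 6 → u none ^ 2 ≠ 41 := by
      intro a b; interval_cases u none <;> norm_num
    rcases (by omega : u (some 0) = -1 ∨ u (some 0) = 0 ∨ u (some 0) = 1) with e | e | e
    · rw [e] at hn; exact absurd (by linarith) (h4 (by nlinarith) (by nlinarith))
    · exact e
    · rw [e] at hn; exact absurd (by linarith) (h4 (by nlinarith) (by nlinarith))
  rw [hb] at hn
  have hv : u none = 8 ∨ u none = -8 := sq_eq_sq_iff_eq_or_eq_neg.1 (by linarith : u none ^ 2 = 8 ^ 2)
  have hsingle : u = Pi.single none (u none) := funext fun p => by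
    rcases p with _ | r
    · simp
    · rw [Pi.single_eq_of_ne (by simp), hall, hb]
  obtain ⟨π, hπ, c, hc, rfl⟩ := exists_monoAut_of_mem (mem_crossStab_of_baseVec hv hsingle)
  rw [hu, monoAut_baseVec] at hsingle
  obtain ⟨hπ0, -⟩ := single_eight (by split <;> norm_num) hsingle
  obtain ⟨hcomm, hinv⟩ := commute_monoAut h
  obtain ⟨k, rfl⟩ := eq_pow23 hπ0 hcomm
  have hconst : ∀ r : ZMod 23, (some r : GolayPt) ∈ c ↔ (some 0 : GolayPt) ∈ c := by
    have hnat : ∀ n : ℕ, (some (n : ZMod 23) : GolayPt) ∈ c ↔ (some 0 : GolayPt) ∈ c := by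
      intro n
      induction n with
      | zero => simp
      | succ n ih => rw [Nat.cast_succ, ← sig23_some, hinv, ih]
    intro r
    rw [← ZMod.natCast_rightInverse r]; exact hnat _
  refine ⟨k, ?_⟩
  rw [s23, ← map_pow]
  have hsub : (sig23 ^ k : M24) = ⟨sig23.1 ^ k, hπ⟩ := Subtype.ext (SubmonoidClass.coe_pow _ _)
  rw [hsub]
  have hcard := codeSet_card_dvd hc
  by_cases h0 : (some 0 : GolayPt) ∈ c <;> by_cases hinf : (none : GolayPt) ∈ c
  · obtain rfl : c = Finset.univ := Finset.eq_univ_iff_forall.2 fun p => by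
      rcases p with _ | r
      exacts [hinf, (hconst r).2 h0]
    exact Or.inr (monoAut_univ _ _)
  · exfalso
    obtain rfl : c = Finset.univ.erase none := Finset.ext fun p => by
      rcases p with _ | r
      · simp [hinf]
      · simp [(hconst r).2 h0]
    rw [Finset.card_erase_of_mem (Finset.mem_univ _), Finset.card_univ, card_golayPt] at hcard
    omega
  · exfalso
    obtain rfl : c = {none} := Finset.ext fun p => by
      rcases p with _ | r
      · simp [hinf]
      · simp [mt (hconst r).1 h0]
    simp at hcard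
  · obtain rfl : c = ∅ := Finset.eq_empty_iff_forall_notMem.2 fun p => by
      rcases p with _ | r
      exacts [hinf, mt (hconst r).1 h0]
    exact Or.inl (monoAut_empty _ _)

/-- An element of the stabiliser of the standard pair commuting with the element of order 11 is
one of its powers. -/
theorem cent11 {g : Co0} (h : g * s11 = s11 * g)
    (hU : g • Spor.leechU = Spor.leechU)
    (hV : g • CfsgLib.Fusion.McLSimple.mclU = CfsgLib.Fusion.McLSimple.mclU) :
    g ∈ Subgroup.zpowers s11 := by
  set u := ((g • baseVec : leechLattice) : GolayPt → ℤ) with hu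
  have hstep := fixed_perm h sig11_none
  have horb : ∀ (a : ZMod 23) (k : ℕ), u (some (2 ^ k * a)) = u (some a) := by
    intro a k
    induction k with
    | zero => simp
    | succ k ih => rw [pow_succ', mul_assoc, ← sig11_some, hu, hstep, ← hu, ih]
  have hcls : ∀ r : ZMod 23, r = 0 ∨ ∃ k : Fin 11, r = 2 ^ k.val * 1 ∨ r = 2 ^ k.val * 5 := by
    decide +kernel
  have hval : ∀ r : ZMod 23, u (some r) =
      if r = 0 then u (some 0) else if r ^ 11 = 1 then u (some 1) else u (some 5) := by
    have ha : ∀ k : Fin 11, (2 : ZMod 23) ^ k.val * 1 ≠ 0 ∧ ((2 : ZMod 23) ^ k.val * 1) ^ 11 = 1 ∧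
        (2 : ZMod 23) ^ k.val * 5 ≠ 0 ∧ ¬ ((2 : ZMod 23) ^ k.val * 5) ^ 11 = 1 := by decide +kernel
    intro r
    rcases hcls r with rfl | ⟨k, rfl | rfl⟩
    · rw [if_pos rfl]
    · rw [if_neg (ha k).1, if_pos (ha k).2.1, horb]
    · rw [if_neg (ha k).2.2.1, if_neg (ha k).2.2.2, horb]
  have hsum : ∀ F : ℤ → ℤ, ∑ r : ZMod 23, F (u (some r)) =
      F (u (some 0)) + 11 * F (u (some 1)) + 11 * F (u (some 5)) := by
    intro F
    rw [Finset.sum_congr rfl fun r _ => by rw [hval r, apply_ite F, apply_ite F]]
    rw [Finset.sum_ite, Finset.sum_ite]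
    simp only [Finset.sum_const, nsmul_eq_mul]
    rw [show (Finset.univ.filter fun r : ZMod 23 => r = 0).card = 1 by decide +kernel,
      show ((Finset.univ.filter fun r : ZMod 23 => ¬r = 0).filter fun r => r ^ 11 = 1).card = 11 by
        decide +kernel,
      show ((Finset.univ.filter fun r : ZMod 23 => ¬r = 0).filter fun r => ¬r ^ 11 = 1).card = 11 by
        decide +kernel]
    push_cast; ring
  have eN : u none ^ 2 + (u (some 0) ^ 2 + 11 * u (some 1) ^ 2 + 11 * u (some 5) ^ 2) = 64 := by
    have := sqNorm_smul_co g baseVec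
    rw [← hu, sqNorm, sum_points, hsum (fun x => x ^ 2), baseVec, coe_axisVec, sqNorm_single] at this
    linarith
  have eU : 4 * u none + 4 * u (some 0) = 32 := by
    have := dot_smul_co g Spor.leechU baseVec
    rw [hU, ← hu, dot_baseVec, dotInt, sum_points] at this
    have e0 : (Spor.leechU : GolayPt → ℤ) none = 4 := rfl
    have es : ∀ r : ZMod 23, (Spor.leechU : GolayPt → ℤ) (some r) * u (some r) =
        if r = 0 then 4 * u (some 0) else 0 := by
      intro r
      show Spor.vecU (some r) * _ = _
      by_cases hr : r = 0 <;> simp [Spor.vecU, hr]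
    rw [Finset.sum_congr rfl fun r _ => es r, Finset.sum_ite_eq' Finset.univ (0 : ZMod 23), e0,
      if_pos (Finset.mem_univ _)] at this
    linarith
  have eV : 5 * u none + (u (some 0) + 11 * u (some 1) + 11 * u (some 5)) = 40 := by
    have := dot_smul_co g CfsgLib.Fusion.McLSimple.mclU baseVec
    have e0 : ∀ p, (CfsgLib.Fusion.McLSimple.mclU : GolayPt → ℤ) p = if p = none then 5 else 1 := by
      decide +kernel
    rw [hV, ← hu, dot_baseVec, dotInt, sum_points, e0, if_pos rfl,
      Finset.sum_congr rfl fun r _ => by rw [e0, if_neg (Option.some_ne_none r), one_mul],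
      hsum (fun x => x)] at this
    linarith
  have hsol : u none = 8 ∧ u (some 0) = 0 ∧ u (some 1) = 0 ∧ u (some 5) = 0 := by
    have h1 : -2 ≤ u (some 1) := by nlinarith
    have h2 : u (some 1) ≤ 2 := by nlinarith
    have h3 : -2 ≤ u (some 5) := by nlinarith
    have h4 : u (some 5) ≤ 2 := by nlinarith
    have hb : u (some 0) = 8 - u none := by omega
    generalize u none = a at *
    generalize u (some 0) = b at *
    generalize u (some 1) = c at *
    generalize u (some 5) = d at *
    subst hb
    have hA : 4 * a = 32 - 11 * c - 11 * d := by omega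
    interval_cases c <;> interval_cases d <;> first
      | (exfalso; omega)
      | (rcases (by omega : a = 8 ∨ a = -3 ∨ a = 19) with rfl | rfl | rfl <;>
          first | omega | (exfalso; norm_num at eN))
  obtain ⟨ha, hb, hc1, hc5⟩ := hsol
  have hsingle : u = Pi.single none 8 := funext fun p => by
    rcases p with _ | r
    · simp [ha]
    · rw [Pi.single_eq_of_ne (by simp), hval, hb, hc1, hc5]; simp
  obtain ⟨π, hπ, c, hc, rfl⟩ := exists_monoAut_of_mem (mem_crossStab_of_baseVec (Or.inl rfl) hsingle)
  rw [hu, monoAut_baseVec] at hsingle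
  obtain ⟨hπ0, -⟩ := single_eight (by split <;> norm_num) hsingle
  -- the fixed vector without zero coordinates excludes sign changes
  have hVc : ∀ p, ((monoAut π hπ c hc • CfsgLib.Fusion.McLSimple.mclU : leechLattice) : GolayPt → ℤ) p =
      (CfsgLib.Fusion.McLSimple.mclU : GolayPt → ℤ) p := fun p => by rw [hV]
  have e0 : ∀ p, (CfsgLib.Fusion.McLSimple.mclU : GolayPt → ℤ) p = if p = none then 5 else 1 := by
    decide +kernel
  obtain rfl : c = ∅ := Finset.eq_empty_iff_forall_notMem.2 fun p hp => by
    have := hVc p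
    rw [coe_monoAut_smul] at this
    simp only [signedPerm, if_pos hp, e0] at this
    split at this <;> split at this <;> omega
  have hπ1 : π (some 0) = some 0 := by
    have := congrArg (fun v : leechLattice => (v : GolayPt → ℤ) (π (some 0))) hU
    rw [coe_monoAut_smul] at this
    simp only [signedPerm, Finset.notMem_empty, if_false, Equiv.symm_apply_apply] at this
    change Spor.vecU (some 0) = Spor.vecU (π (some 0)) at this
    by_contra hne
    have hn : π (some 0) ≠ none := fun e => by
      have := π.injective (e.trans hπ0.symm); simp at this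
    simp [Spor.vecU, hne, hn] at this
  obtain ⟨hcomm, -⟩ := commute_monoAut h
  obtain ⟨k, rfl⟩ := eq_pow11 hπ hπ0 hπ1 hcomm
  rw [monoAut_empty, s11]
  refine ⟨(k : ℤ), ?_⟩
  show permHom sig11 ^ (k : ℤ) = _
  rw [zpow_natCast, ← map_pow]
  congr 1

end CfsgLib.Leech.ConwaySimple
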