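import Cfsg.Agent.Lib.Leech.ConwaySimple.Cent
import Cfsg.Agent.Lib.Leech.ConwaySimple.Basic

/-!
# Monomial automorphisms fixing many crosses, and sign changes in normal subgroups
-/

set_option autoImplicit false

open scoped Pointwise symmDiff

namespace CfsgLib.Leech.ConwaySimple

open Cfsg CfsgLib.Golay CfsgLib.Leech

theorem finite_co0 : Finite Co0 := Nat.finite_of_card_ne_zero (by rw [card_co0]; norm_num)

/-- Four on the points of a set of even size. -/
def fours (S : Finset GolayPt) (hS : 2 ∣ S.card) : leechLattice :=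
  ⟨fun p => 4 * indi S p, four_mul_mem_leech (indi S) (by rw [sum_indi]; exact_mod_cast hS)⟩

theorem coe_fours (S : Finset GolayPt) (hS : 2 ∣ S.card) :
    ((fours S hS : leechLattice) : GolayPt → ℤ) = fun p => 4 * indi S p := rfl

theorem sqNorm_fours (S : Finset GolayPt) (hS : 2 ∣ S.card) :
    sqNorm ((fours S hS : leechLattice) : GolayPt → ℤ) = 16 * S.card := by
  rw [coe_fours, sqNorm, ← sum_indi, Finset.mul_sum]
  refine Finset.sum_congr rfl fun p _ => ?_
  simp only [indi]; split <;> norm_num

/-- An automorphism fixes the cross of a vector. -/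
def FixCls (g : Co0) (y : leechLattice) : Prop := g • y - y ∈ twoMul leechLattice

theorem FixCls.sub {g : Co0} {y z : leechLattice} (hy : FixCls g y) (hz : FixCls g z) :
    FixCls g (y - z) := by
  show g • (y - z) - (y - z) ∈ twoMul leechLattice
  rw [smul_sub', show g • y - g • z - (y - z) = (g • y - y) - (g • z - z) by abel]
  exact sub_mem hy hz

theorem FixCls.eq_or_neg {g : Co0} {d : leechLattice} (h : FixCls g d)
    (hd : sqNorm (d : GolayPt → ℤ) = 32) : g • d = d ∨ g • d = -d := by
  have h1 : leechEven.b (g • d) (g • d) = 4 := inner_self_of_norm (by rw [sqNorm_smul_co, hd]; norm_num)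
  have h2 : leechEven.b d d = 4 := inner_self_of_norm (by rw [hd]; norm_num)
  rcases leechEven.short_congr h (by omega) (by omega) with h' | h' | h'
  · exact Or.inl h'
  · exact Or.inr h'
  · omega

/-- The difference of fours at two points. -/
def diffVec (s t : GolayPt) : GolayPt → ℤ := fun p => (if p = s then 4 else 0) - (if p = t then 4 else 0)

theorem sqNorm_diffVec {s t : GolayPt} (h : s ≠ t) : sqNorm (diffVec s t) = 32 := by
  rw [sqNorm, Finset.sum_eq_add s t h (fun b _ hb => by simp [diffVec, hb.1, hb.2]) (by simp) (by simp)]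
  simp [diffVec, h, h.symm]

/-- The tetrads through a pair differ by a difference of fours. -/
theorem fours_sub {A : Finset GolayPt} {s t : GolayPt} (hs : s ∉ A) (ht : t ∉ A)
    (h1 : 2 ∣ (insert s A).card) (h2 : 2 ∣ (insert t A).card) :
    ((fours _ h1 - fours _ h2 : leechLattice) : GolayPt → ℤ) = diffVec s t := by
  funext p
  simp only [AddSubgroup.coe_sub, Pi.sub_apply, coe_fours, diffVec, indi, Finset.mem_insert]
  by_cases a : p = s <;> by_cases b : p = t
  · subst a; subst b; simp
  · subst a; simp [b, hs]
  · subst b; simp [a, ht]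
  · simp [a, b]

/-- A monomial automorphism sending a difference of fours to plus or minus itself. -/
theorem pair_fixed {π : Equiv.Perm GolayPt} {hπ : π ∈ M24} {c : Finset GolayPt} {hc : CodeSet c}
    {d : leechLattice} {s t : GolayPt} (hst : s ≠ t) (hd : (d : GolayPt → ℤ) = diffVec s t)
    (h : monoAut π hπ c hc • d = d ∨ monoAut π hπ c hc • d = -d) :
    (π s = s ∨ π s = t) ∧ (π s = s → π t = t → (s ∈ c ↔ t ∈ c)) := by
  have e : ∀ q, signedPerm π c (diffVec s t) (π q) = diffVec s t (π q) ∨
      signedPerm π c (diffVec s t) (π q) = -diffVec s t (π q) := by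
    intro q
    rw [← hd, ← coe_monoAut_smul π hπ c hc]
    rcases h with h | h <;> rw [h]
    · exact Or.inl rfl
    · exact Or.inr rfl
  refine ⟨?_, fun hs ht => ?_⟩
  · by_contra hne
    push Not at hne
    have := e s
    simp [signedPerm, diffVec, hne.1, hne.2, hst] at this
    split at this <;> omega
  · have hd' : ∀ q, signedPerm π c (diffVec s t) q =
        ((monoAut π hπ c hc • d : leechLattice) : GolayPt → ℤ) q := fun q => by
      rw [coe_monoAut_smul, hd]
    have hs' : π.symm s = s := π.symm_apply_eq.2 hs.symm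
    have ht' : π.symm t = t := π.symm_apply_eq.2 ht.symm
    have a := hd' s
    have b := hd' t
    rcases h with h | h <;> rw [h] at a b <;>
      simp [signedPerm, diffVec, hs', ht', hst, hst.symm, hd] at a b <;>
      by_cases x : s ∈ c <;> by_cases y : t ∈ c <;> simp [x, y] at a b ⊢

/-- A permutation in the group fixing every point outside a pair is trivial. -/
theorem eq_one_of_fix {π : Equiv.Perm GolayPt} (hπ : π ∈ M24) {a b : GolayPt} (hab : a ≠ b)
    (h : ∀ p, p ≠ a → p ≠ b → π p = p) : π = 1 := by
  obtain ⟨g, hg, ha, hb⟩ := M24_map_two hab (show pt 20 ≠ pt 21 by decide +kernel)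
  have h1 : g * π * g⁻¹ = 1 := by
    refine eq_one_of_base (mul_mem (mul_mem hg hπ) (inv_mem hg)) fun q hq => ?_
    have n1 : g⁻¹ q ≠ a := fun e => by
      have : q = pt 20 := by rw [← ha, ← e, Equiv.Perm.inv_def, Equiv.apply_symm_apply]
      subst this; revert hq; decide +kernel
    have n2 : g⁻¹ q ≠ b := fun e => by
      have : q = pt 21 := by rw [← hb, ← e, Equiv.Perm.inv_def, Equiv.apply_symm_apply]
      subst this; revert hq; decide +kernel
    rw [Equiv.Perm.mul_apply, Equiv.Perm.mul_apply, h _ n1 n2, Equiv.Perm.inv_def,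
      Equiv.apply_symm_apply]
  calc π = g⁻¹ * (g * π * g⁻¹) * g := by group
    _ = 1 := by rw [h1]; group

theorem signAut_mul {s t : Finset GolayPt} (hs : CodeSet s) (ht : CodeSet t) :
    signAut s hs * signAut t ht = signAut (s ∆ t) (codeSet_symmDiff hs ht) := by
  refine co_ext fun v => Subtype.ext (funext fun i => ?_)
  simp only [mul_smul, coe_signAut_smul, signFlip_apply, Finset.mem_symmDiff]
  by_cases a : i ∈ s <;> by_cases b : i ∈ t <;> simp [a, b]

theorem signAut_congr {s t : Finset GolayPt} (hs : CodeSet s) (ht : CodeSet t) (h : s = t) :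
    signAut s hs = signAut t ht := by subst h; rfl

theorem conj_signAut (π : M24) {s : Finset GolayPt} (hs : CodeSet s) :
    permHom π * signAut s hs * (permHom π)⁻¹ = signAut (π.1 • s) (supports_smul π.2 hs) := by
  rw [mul_inv_eq_iff_eq_mul]
  refine co_ext fun v => Subtype.ext (funext fun i => ?_)
  simp only [mul_smul, coe_permHom_smul, coe_signAut_smul, signFlip_apply]
  have : π.1.symm i ∈ s ↔ i ∈ π.1 • s := by
    rw [← Finset.inv_smul_mem_iff]; rfl
  simp only [this]
  rfl

theorem signAut_mul_self {s : Finset GolayPt} (hs : CodeSet s) : signAut s hs * signAut s hs = 1 :=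
  co_ext fun v => Subtype.ext (funext fun i => by
    rw [mul_smul, coe_signAut_smul, coe_signAut_smul, signFlip_involutive, one_smul])

/-- Sign changes with the difference of a set and its image in a normal subgroup containing the
permutation. -/
theorem signAut_commutator_mem {N : Subgroup Co0} [N.Normal] {π : M24} (hπ : permHom π ∈ N)
    {s : Finset GolayPt} (hs : CodeSet s) :
    signAut (s ∆ (π.1 • s)) (codeSet_symmDiff hs (supports_smul π.2 hs)) ∈ N := by
  rw [← signAut_mul hs (supports_smul π.2 hs), ← conj_signAut π hs,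
    show signAut s hs * (permHom π * signAut s hs * (permHom π)⁻¹) =
      (signAut s hs * permHom π * (signAut s hs)⁻¹) * (permHom π)⁻¹ by
      rw [inv_eq_of_mul_eq_one_right (signAut_mul_self hs)]; simp only [mul_assoc]]
  exact mul_mem ((inferInstance : N.Normal).conj_mem _ hπ _) (inv_mem hπ)

/-- Conjugates of stabilised crosses. -/
theorem fixCls_of_conj {g a : Co0} {y : leechLattice} (hy : sqNorm (y : GolayPt → ℤ) = 64)
    (ha : ∀ z, z ∈ leechEven.cls8 y ↔ a • z ∈ stdSet) (h : a * g * a⁻¹ ∈ crossStab) : FixCls g y := by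
  have hself : y ∈ leechEven.cls8 y := self_mem_cls8 (inner_self_of_norm (by rw [hy]; norm_num))
  have h2 : g • y ∈ leechEven.cls8 y := by
    rw [ha, show a • g • y = (a * g * a⁻¹) • a • y by rw [← mul_smul, ← mul_smul]; group]
    have hs : (a * g * a⁻¹) • stdSet = stdSet := h
    rw [← hs]
    exact Set.smul_mem_smul_set ((ha y).1 hself)
  show g • y - y ∈ twoMul leechLattice
  rw [← neg_sub]
  exact neg_mem h2.2

theorem index_crossStab : crossStab.index = 8292375 := by
  rw [crossStab, MulAction.index_stabilizer, ncard_orbit_stdSet]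

end CfsgLib.Leech.ConwaySimple
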